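import Mathlib
import Cfsg.Agent.H424.DegTools
import Cfsg.Prelude.Def_KGroupFacts
import Cfsg.Agent.Lib.MinNormal
import Cfsg.Agent.FastGrp
import Cfsg.Agent.Prune
set_option linter.all false

section
prune_inst 0x7f00000000000000000000000000000000000000000000000000000000000000000000000000000000000000000000000000000000000000000000000000000000000000000000000000000000000000003fffffffffffffffffffffffffffbeffbdffffffff

-- part: H417/Quasi
section
set_option linter.all false
open scoped Cfsg.Agent.FastGrp

/-!
# A Sylow subgroup of prime order with trivial coprime action (helper417)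

`G` finite, `P` a Sylow `p`-subgroup of order `p`, not normal, and `p ∤ r ^ j - 1` for all prime powers
`r ^ j ≠ 1` dividing `|G|`, `r ≠ p` : then `L = ⟨P ^ G⟩` is quasisimple, and `p` divides `|L / Z(L)|` but not
`|Z(L)|`.
-/

set_option autoImplicit false

namespace Cfsg.Agent.H417.Quasi

open Subgroup
open scoped commutatorElement

universe u

variable {G : Type u} [Group G]

/-- `p` acts trivially on every `r`-group of order dividing `n`: no prime power `r ^ j ≠ 1` dividing `n` is
congruent to one modulo `p`. -/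
def Triv (p n : ℕ) : Prop := ∀ r : ℕ, r.Prime → r ≠ p → ∀ j : ℕ, 1 ≤ j → r ^ j ∣ n → r ^ j % p ≠ 1

theorem Triv.of_dvd {p n m : ℕ} (h : Triv p n) (hm : m ∣ n) : Triv p m :=
  fun r hr hrp j hj hd => h r hr hrp j hj (hd.trans hm)

/-- The fixed point argument. -/
theorem centralizes_of_normalizes [Finite G] {p : ℕ} [hp : Fact p.Prime] (P R : Subgroup G) (hP : IsPGroup p P)
    {r a : ℕ} (hr : r.Prime) (hrp : r ≠ p) (hR : Nat.card R = r ^ a) (hT : Triv p (r ^ a))
    (hPR : P ≤ normalizer (R : Set G)) : R ≤ centralizer (P : Set G) := by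
  let act : MulAction P R := 
    { smul := fun x y => ⟨(x : G) * y * (x : G)⁻¹, (mem_normalizer_iff.1 (hPR x.2) y).1 y.2⟩
      one_smul := fun y => Subtype.ext (by
        show ((1 : P) : G) * y * ((1 : P) : G)⁻¹ = y
        simp)
      mul_smul := fun x x' y => Subtype.ext (by
        show ((x * x' : P) : G) * y * ((x * x' : P) : G)⁻¹ = x * (x' * y * (x' : G)⁻¹) * (x : G)⁻¹
        push_cast
        group) }
  have h1 := hP.card_modEq_card_fixedPoints R
  let C : Subgroup R := (centralizer (P : Set G)).subgroupOf R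
  have hC : Nat.card (MulAction.fixedPoints P R) = Nat.card C := by
    refine Nat.card_congr (Equiv.subtypeEquivRight fun y => ?_)
    show (∀ x : P, x • y = y) ↔ (y : G) ∈ centralizer (P : Set G)
    rw [mem_centralizer_iff]
    constructor
    · intro h x hx
      have h2 : ((⟨x, hx⟩ : P) : G) * y * ((⟨x, hx⟩ : P) : G)⁻¹ = y := congrArg Subtype.val (h ⟨x, hx⟩)
      simpa [mul_inv_eq_iff_eq_mul] using h2
    · intro h x
      refine Subtype.ext ?_
      show (x : G) * y * (x : G)⁻¹ = y
      rw [h x x.2, mul_inv_cancel_right]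
  have hdvd : Nat.card C ∣ r ^ a := by
    rw [← hR]
    exact Subgroup.card_subgroup_dvd_card C
  obtain ⟨c, hca, hc⟩ := (Nat.dvd_prime_pow hr).1 hdvd
  rw [hC, hR, hc] at h1
  have hca' : c = a := by
    by_contra hne
    have hlt : c < a := lt_of_le_of_ne hca hne
    have h2 : r ^ (a - c) * r ^ c ≡ 1 * r ^ c [MOD p] := by
      rw [← pow_add, Nat.sub_add_cancel hca, one_mul]
      exact h1
    have hcop : Nat.gcd p (r ^ c) = 1 :=
      Nat.Coprime.pow_right _ ((Nat.coprime_primes hp.out hr).2 hrp.symm)
    have h3 := Nat.ModEq.cancel_right_of_coprime hcop h2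
    refine hT r hr hrp (a - c) (by omega) (pow_dvd_pow r (Nat.sub_le _ _)) ?_
    have h4 : r ^ (a - c) % p = 1 % p := h3
    rw [h4, Nat.mod_eq_of_lt hp.out.one_lt]
  have hCtop : C = ⊤ := by
    apply Subgroup.eq_top_of_card_eq
    rw [hc, hR, hca']
  intro y hy
  have : (⟨y, hy⟩ : R) ∈ C := by rw [hCtop]; exact mem_top _
  exact this

/-- A Sylow `p`-subgroup normalises a Sylow `r`-subgroup of a normal `p'`-subgroup. -/
theorem exists_normalized [Finite G] {p : ℕ} [hp : Fact p.Prime] (P : Sylow p G)
    (M : Subgroup G) [M.Normal] (hM : ¬ p ∣ Nat.card M) (r : ℕ) [hr : Fact r.Prime] :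
    ∃ R : Sylow r M, (P : Subgroup G) ≤ normalizer ((R : Subgroup M).map M.subtype : Set G) := by
  obtain ⟨R⟩ : Nonempty (Sylow r M) := inferInstance
  have hF := R.normalizer_sup_eq_top
  set N : Subgroup G := normalizer ((R : Subgroup M).map M.subtype : Set G) with hN
  -- a Sylow subgroup of `N` is a Sylow subgroup of `G`
  obtain ⟨Q⟩ : Nonempty (Sylow p N) := inferInstance
  have hQ1 : Nat.card Q = p ^ (Nat.card N).factorization p := Q.card_eq_multiplicity
  have hind : ¬ p ∣ N.index := by
    intro hd
    apply hM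
    have h1 : M.relIndex N = M.index := by
      rw [← relIndex_sup_right, hF, relIndex_top_right]
    have h2 : (N ⊓ M).relIndex M * M.index = (N ⊓ M).index := relIndex_mul_index inf_le_right
    have h3 : (N ⊓ M).relIndex N * N.index = (N ⊓ M).index := relIndex_mul_index inf_le_left
    rw [inf_relIndex_left, h1] at h3
    rw [inf_relIndex_right] at h2
    have h4 : N.relIndex M = N.index := by
      apply Nat.eq_of_mul_eq_mul_left (Nat.pos_of_ne_zero (index_ne_zero_of_finite (H := M)))
      rw [h3, ← h2, mul_comm]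
    exact hd.trans (by rw [← h4]; exact relIndex_dvd_card _ _)
  have hcard : Nat.card (Q.map N.subtype : Subgroup G) = p ^ (Nat.card G).factorization p := by
    have e1 : Nat.card (Q.map N.subtype : Subgroup G) = Nat.card Q :=
      Nat.card_congr ((Q : Subgroup N).equivMapOfInjective N.subtype N.subtype_injective).toEquiv.symm
    rw [e1, hQ1, ← N.card_mul_index,
      Nat.factorization_mul Nat.card_pos.ne' Subgroup.index_ne_zero_of_finite, Finsupp.add_apply,
      Nat.factorization_eq_zero_of_not_dvd hind, add_zero]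
  let Q' : Sylow p G := Sylow.ofCard (Q.map N.subtype : Subgroup G) hcard
  obtain ⟨g, hg⟩ := MulAction.exists_smul_eq G P Q'
  -- `g P g⁻¹ = Q'` normalises `R`, so `P` normalises `g⁻¹ R g`
  have hQN : (Q' : Subgroup G) ≤ N := by
    show (Q.map N.subtype : Subgroup G) ≤ N
    rintro _ ⟨x, -, rfl⟩
    exact x.2
  let R' : Sylow r M := (⟨MulAut.conjNormal (H := M) g⁻¹ , rfl⟩ : {f : MulAut M // f = MulAut.conjNormal (H := M) g⁻¹}).1 • R
  refine ⟨R', ?_⟩
  intro x hx
  have hgx : g * x * g⁻¹ ∈ N := by
    apply hQN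
    have : g * x * g⁻¹ ∈ ((g • P : Sylow p G) : Subgroup G) := by
      rw [Sylow.coe_subgroup_smul]
      exact ⟨x, hx, by simp [MulAut.smul_def, MulAut.conj_apply]⟩
    rwa [hg] at this
  rw [hN] at hgx
  have key : ∀ y : G, y ∈ ((R' : Subgroup M).map M.subtype) ↔ g * y * g⁻¹ ∈ ((R : Subgroup M).map M.subtype) := by
    intro y
    constructor
    · rintro ⟨m, hm, rfl⟩
      obtain ⟨m', hm', rfl⟩ := hm
      refine ⟨m', hm', ?_⟩
      simp [MulAut.smul_def]
      group
    · rintro ⟨m, hm, hmy⟩
      refine ⟨MulAut.conjNormal g⁻¹ m, ⟨m, hm, rfl⟩, ?_⟩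
      have : y = g⁻¹ * (M.subtype m) * g := by
        rw [hmy]; group
      rw [this]
      simp
  rw [mem_normalizer_iff]
  intro y
  show y ∈ ((R' : Subgroup M).map M.subtype) ↔ x * y * x⁻¹ ∈ ((R' : Subgroup M).map M.subtype)
  rw [key, key, show g * (x * y * x⁻¹) * g⁻¹ = (g * x * g⁻¹) * (g * y * g⁻¹) * (g * x * g⁻¹)⁻¹ by group]
  exact mem_normalizer_iff.1 hgx _

/-- A Sylow `p`-subgroup centralises every normal `p'`-subgroup. -/
theorem centralizes_normal [Finite G] {p : ℕ} [hp : Fact p.Prime] (P : Sylow p G)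
    (hT : Triv p (Nat.card G)) (M : Subgroup G) [M.Normal] (hM : ¬ p ∣ Nat.card M) :
    M ≤ centralizer (P : Set G) := by
  let C : Subgroup M := (centralizer (P : Set G)).subgroupOf M
  have hC : C = ⊤ := by
    rw [← Subgroup.index_eq_one]
    by_contra hne
    obtain ⟨r, hr, hrd⟩ := Nat.exists_prime_and_dvd hne
    have : Fact r.Prime := ⟨hr⟩
    have hrp : r ≠ p := by
      rintro rfl
      exact hM (hrd.trans (Subgroup.index_dvd_card C))
    obtain ⟨R, hR⟩ := exists_normalized P M hM r
    have hRc : Nat.card ((R : Subgroup M).map M.subtype : Subgroup G) = r ^ (Nat.card M).factorization r := by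
      rw [← R.card_eq_multiplicity]
      exact Nat.card_congr ((R : Subgroup M).equivMapOfInjective M.subtype M.subtype_injective).toEquiv.symm
    have hdvd : r ^ (Nat.card M).factorization r ∣ Nat.card G :=
      (Nat.ordProj_dvd _ _).trans (Subgroup.card_subgroup_dvd_card M)
    have h1 := centralizes_of_normalizes (P : Subgroup G) _ P.isPGroup' hr hrp hRc (hT.of_dvd hdvd) hR
    have h2 : (R : Subgroup M) ≤ C := by
      intro x hx
      exact h1 ⟨x, hx, rfl⟩
    have h3 : ¬ r ∣ (R : Subgroup M).index := R.not_dvd_index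
    exact h3 (hrd.trans (Subgroup.index_dvd_of_le h2))
  intro y hy
  have : (⟨y, hy⟩ : M) ∈ C := by rw [hC]; exact mem_top _
  exact this

theorem card_sylow_eq [Finite G] {p : ℕ} [Fact p.Prime] (P R : Sylow p G) : Nat.card R = Nat.card P := by
  obtain ⟨g, rfl⟩ := MulAction.exists_smul_eq G R P
  exact Nat.card_congr (Sylow.equivSMul R g).toEquiv

/-- A normal subgroup whose order is divisible by `p` contains the Sylow `p`-subgroups of order `p`. -/
theorem le_of_dvd [Finite G] {p : ℕ} [hp : Fact p.Prime] (P : Sylow p G) (hP : Nat.card P = p)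
    (X : Subgroup G) [X.Normal] (hX : p ∣ Nat.card X) : (P : Subgroup G) ≤ X := by
  obtain ⟨Q⟩ : Nonempty (Sylow p X) := inferInstance
  have h2 : Nat.card (Q.map X.subtype : Subgroup G) = p := by
    have e1 : Nat.card (Q.map X.subtype : Subgroup G) = Nat.card Q :=
      Nat.card_congr ((Q : Subgroup X).equivMapOfInjective X.subtype X.subtype_injective).toEquiv.symm
    rw [e1]
    have h3 : p ∣ Nat.card Q := Q.dvd_card_of_dvd_card hX
    have h4 : Nat.card (Q.map X.subtype : Subgroup G) ∣ p := by
      obtain ⟨R, hR⟩ := (Q.2.map X.subtype).exists_le_sylow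
      exact (Subgroup.card_dvd_of_le hR).trans (by
        rw [show Nat.card (R : Subgroup G) = Nat.card P from card_sylow_eq P R]
        exact hP.dvd)
    rw [e1] at h4
    exact Nat.dvd_antisymm h4 h3
  obtain ⟨R, hR⟩ := (Q.2.map X.subtype).exists_le_sylow
  obtain ⟨g, hg⟩ := MulAction.exists_smul_eq G R P
  have h5 : Nat.card R = p := (card_sylow_eq P R).trans hP
  have h6 : (Q.map X.subtype : Subgroup G) = R := by
    apply Subgroup.eq_of_le_of_card_ge hR
    rw [h2]
    exact h5.le
  intro x hx
  rw [← hg, Sylow.coe_subgroup_smul] at hx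
  obtain ⟨y, hy, rfl⟩ := hx
  have h7 : y ∈ X := by
    have : y ∈ (Q.map X.subtype : Subgroup G) := by rw [h6]; exact hy
    obtain ⟨z, -, rfl⟩ := this
    exact z.2
  exact Subgroup.Normal.conj_mem inferInstance y h7 g

/-- Quasisimplicity when the Sylow `p`-subgroup generates `L` as a normal subgroup. -/
theorem quasisimple_of_normalClosure {L : Type u} [Group L] [Finite L] {p : ℕ} [hp : Fact p.Prime]
    (P : Sylow p L) (hP : Nat.card P = p) (hT : Triv p (Nat.card L)) (hn : ¬ (P : Subgroup L).Normal)
    (htop : ∀ X : Subgroup L, X.Normal → (P : Subgroup L) ≤ X → X = ⊤) :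
    commutator L = ⊤ ∧ IsSimpleGroup (L ⧸ center L) ∧ ¬ p ∣ Nat.card (center L) ∧
      p ∣ Nat.card (L ⧸ center L) ∧ ¬ ∀ a b : L ⧸ center L, a * b = b * a := by
  have hdv : ∀ X : Subgroup L, X.Normal → p ∣ Nat.card X → X = ⊤ := fun X hX hd =>
    htop X hX (le_of_dvd P hP X hd)
  have hnd : ∀ X : Subgroup L, X.Normal → ¬ p ∣ Nat.card X → X ≤ center L := by
    intro X hX hd
    have h1 := centralizes_normal P hT X hd
    have h2 : (P : Subgroup L) ≤ centralizer (X : Set L) := by
      rw [Subgroup.le_centralizer_iff]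
      exact h1
    have h3 := htop (centralizer (X : Set L)) inferInstance h2
    intro x hx
    rw [mem_center_iff]
    intro g
    have : g ∈ centralizer (X : Set L) := by rw [h3]; exact mem_top _
    exact (mem_centralizer_iff.1 this x hx).symm
  have hcen : ¬ p ∣ Nat.card (center L) := by
    intro h
    have h1 := hdv _ inferInstance h
    apply hn
    refine ⟨fun x hx g => ?_⟩
    have hx' : x ∈ center L := by rw [h1]; exact mem_top _
    rw [mem_center_iff.1 hx' g, mul_inv_cancel_right]
    exact hx
  have hcomm : commutator L = ⊤ := by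
    by_contra hne
    have h1 : ¬ p ∣ Nat.card (commutator L) := fun h => hne (hdv _ inferInstance h)
    have h2 := hnd _ inferInstance h1
    apply hn
    have h3 : Group.IsNilpotent L := by
      apply Group.of_quotient_center_nilpotent
      have h5 : ∀ a b : L ⧸ center L, a * b = b * a := by
        intro a b
        obtain ⟨a, rfl⟩ := QuotientGroup.mk_surjective a
        obtain ⟨b, rfl⟩ := QuotientGroup.mk_surjective b
        rw [← QuotientGroup.mk_mul, ← QuotientGroup.mk_mul, eq_comm, QuotientGroup.eq]
        apply h2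
        have h6 : (b * a)⁻¹ * (a * b) = ⁅a⁻¹, b⁻¹⁆ := by
          rw [commutatorElement_def]; group
        rw [h6, _root_.commutator_def]
        exact commutator_mem_commutator (mem_top _) (mem_top _)
      let _ : CommGroup (L ⧸ center L) := { (inferInstance : Group (L ⧸ center L)) with mul_comm := h5 }
      exact CommGroup.isNilpotent
    infer_instance
  have hpL : p ∣ Nat.card L := hP.symm.dvd.trans (Subgroup.card_subgroup_dvd_card (P : Subgroup L))
  have hq : p ∣ Nat.card (L ⧸ center L) := by
    have h1 := (center L).card_mul_index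
    rw [Subgroup.index] at h1
    rw [← h1] at hpL
    exact (hp.out.dvd_mul.1 hpL).resolve_left hcen
  have hne : Nontrivial (L ⧸ center L) := by
    have h1 : 1 < Nat.card (L ⧸ center L) := lt_of_lt_of_le hp.out.one_lt (Nat.le_of_dvd Nat.card_pos hq)
    exact Finite.one_lt_card_iff_nontrivial.1 h1
  refine ⟨hcomm, ?_, hcen, hq, ?_⟩
  · refine { exists_pair_ne := hne.exists_pair_ne, eq_bot_or_eq_top_of_normal := fun H hH => ?_ }
    set X := H.comap (QuotientGroup.mk' (center L)) with hX
    have hXn : X.Normal := hH.comap _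
    by_cases hd : p ∣ Nat.card X
    · right
      have h1 := hdv X hXn hd
      rw [eq_top_iff]
      intro y _
      obtain ⟨y, rfl⟩ := QuotientGroup.mk_surjective y
      have : y ∈ X := by rw [h1]; exact mem_top _
      exact this
    · left
      have h1 := hnd X hXn hd
      rw [eq_bot_iff]
      intro y hy
      obtain ⟨y, rfl⟩ := QuotientGroup.mk_surjective y
      have : y ∈ X := hy
      exact (QuotientGroup.eq_one_iff y).2 (h1 this)
  · intro hab
    have h1 : commutator L ≤ center L := by
      rw [_root_.commutator_def, Subgroup.commutator_le]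
      intro a _ b _
      have h2 := hab (a : L ⧸ center L) b
      rw [← QuotientGroup.eq_one_iff]
      rw [commutatorElement_def]
      show (a : L ⧸ center L) * b * (a : L ⧸ center L)⁻¹ * (b : L ⧸ center L)⁻¹ = 1
      rw [h2, mul_inv_cancel_right, mul_inv_cancel]
    rw [hcomm, top_le_iff] at h1
    apply hcen
    rw [h1, card_top]
    exact hpL

/-- **The main lemma.** -/
theorem exists_quasisimple [Finite G] {p : ℕ} [hp : Fact p.Prime] (P : Sylow p G) (hP : Nat.card P = p)
    (hT : Triv p (Nat.card G)) (hn : ¬ (P : Subgroup G).Normal) :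
    ∃ L : Subgroup G, L.Normal ∧ (P : Subgroup G) ≤ L ∧ commutator L = ⊤ ∧ IsSimpleGroup (L ⧸ center L) ∧
      ¬ p ∣ Nat.card (center L) ∧ p ∣ Nat.card (L ⧸ center L) ∧
      (¬ ∀ a b : L ⧸ center L, a * b = b * a) ∧
      ∀ X : Subgroup G, X.Normal → p ∣ Nat.card X → L ≤ X := by
  let L : Subgroup G := normalClosure ((P : Subgroup G) : Set G)
  have hPL : (P : Subgroup G) ≤ L := subset_normalClosure
  let Q : Sylow p L := P.subtype hPL
  have hQc : Nat.card Q = p := (Nat.card_congr (Subgroup.subgroupOfEquivOfLe hPL).toEquiv).trans hP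
  -- conjugates of `P` are conjugate in `L`
  have hconj : ∀ g : G, ∃ l : L, ((g • P : Sylow p G) : Subgroup G) = (((l : G) • P : Sylow p G) : Subgroup G) := by
    intro g
    have h1 : ((g • P : Sylow p G) : Subgroup G) ≤ L := by
      rw [Sylow.coe_subgroup_smul]
      rintro _ ⟨y, hy, rfl⟩
      exact Subgroup.Normal.conj_mem inferInstance y (hPL hy) g
    obtain ⟨l, hl⟩ := MulAction.exists_smul_eq L Q ((g • P).subtype h1)
    refine ⟨l, ?_⟩
    have h2 : ((l • Q : Sylow p L) : Subgroup L).map L.subtype = (((g • P).subtype h1 : Sylow p L) : Subgroup L).map L.subtype := by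
      rw [hl]
    rw [Sylow.coe_subtype, Subgroup.subgroupOf_map_subtype, inf_eq_left.2 h1] at h2
    rw [← h2, Sylow.coe_subgroup_smul, Sylow.coe_subgroup_smul]
    ext x
    constructor
    · rintro ⟨_, ⟨y, hy, rfl⟩, rfl⟩
      exact ⟨y, hy, rfl⟩
    · rintro ⟨y, hy, rfl⟩
      exact ⟨_, ⟨⟨y, hPL hy⟩, hy, rfl⟩, rfl⟩
  have htop : ∀ X : Subgroup L, X.Normal → (Q : Subgroup L) ≤ X → X = ⊤ := by
    intro X hX hQX
    have h1 : L ≤ X.map L.subtype := by
      show Subgroup.closure _ ≤ _
      rw [Subgroup.closure_le]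
      intro x hx
      rw [Group.mem_conjugatesOfSet_iff] at hx
      obtain ⟨a, ha, hax⟩ := hx
      obtain ⟨g, hg⟩ := isConj_iff.1 hax
      obtain ⟨l, hl⟩ := hconj g
      have h2 : x ∈ ((g • P : Sylow p G) : Subgroup G) := by
        rw [Sylow.coe_subgroup_smul]
        exact ⟨a, ha, by simp [MulAut.smul_def, MulAut.conj_apply, hg]⟩
      rw [hl, Sylow.coe_subgroup_smul] at h2
      obtain ⟨y, hy, rfl⟩ := h2
      refine ⟨l * ⟨y, hPL hy⟩ * l⁻¹, hX.conj_mem _ (hQX hy) l, ?_⟩
      simp [MulAut.smul_def, MulAut.conj_apply]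
    rw [eq_top_iff]
    intro x _
    obtain ⟨y, hy, hyx⟩ := h1 x.2
    have : y = x := Subtype.ext hyx
    rwa [← this]
  have hnL : ¬ (Q : Subgroup L).Normal := by
    intro hN
    apply hn
    refine ⟨fun x hx g => ?_⟩
    obtain ⟨l, hl⟩ := hconj g
    have h2 : g * x * g⁻¹ ∈ ((g • P : Sylow p G) : Subgroup G) := by
      rw [Sylow.coe_subgroup_smul]
      exact ⟨x, hx, by simp [MulAut.smul_def, MulAut.conj_apply]⟩
    rw [hl, Sylow.coe_subgroup_smul] at h2
    obtain ⟨y, hy, hyx⟩ := h2
    have h3 := hN.conj_mem ⟨y, hPL hy⟩ hy l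
    have h4 : g * x * g⁻¹ = ((l * ⟨y, hPL hy⟩ * l⁻¹ : L) : G) := by
      rw [← hyx]
      simp [MulAut.smul_def, MulAut.conj_apply]
    rw [h4]
    exact h3
  obtain ⟨h1, h2, h3, h4, h5⟩ := quasisimple_of_normalClosure Q hQc
    (hT.of_dvd (Subgroup.card_subgroup_dvd_card L)) hnL htop
  refine ⟨L, inferInstance, hPL, h1, h2, h3, h4, h5, fun X hX hd => ?_⟩
  exact Subgroup.normalClosure_le_normal (le_of_dvd P hP X hd)

end Cfsg.Agent.H417.Quasi
end

-- part: H417/DegQuasi
section
set_option linter.all false
open scoped Cfsg.Agent.FastGrp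

/-!
# Character degrees and the quasisimple normal subgroup of `H417.Quasi` (helper417)

* `QS G p L` : the conclusion of `Quasi.exists_quasisimple`;
* `exists_qs` : from a degree divisible by `p`;
* `QS.exists_degree` : `m ∣ d` coprime to the index goes down to `L`, with `c ^ 2 ≤ |L / Z(L)|`;
* `QS.mulEquiv` : `G ≃* L / Z(L)` when the orders agree;
* `QS.center_eq_bot` : trivial Schur multiplier.
-/

set_option autoImplicit false

namespace Cfsg.Agent.H417.DegQuasi

open Subgroup Cfsg
open Cfsg.Agent.H424.DegTools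
open Cfsg.Agent.H417.Quasi (Triv)

universe u v

variable {G : Type u} [Group G]

/-- `L` is a normal quasisimple subgroup with `p ∣ |L / Z(L)|`, contained in every normal subgroup of order
divisible by `p`. -/
structure QS (G : Type u) [Group G] (p : ℕ) (L : Subgroup G) : Prop where
  normal : L.Normal
  perf : commutator L = ⊤
  simple : IsSimpleGroup (L ⧸ center L)
  center_dvd : ¬ p ∣ Nat.card (center L)
  dvd : p ∣ Nat.card (L ⧸ center L)
  na : ¬ ∀ a b : L ⧸ center L, a * b = b * a
  le : ∀ X : Subgroup G, X.Normal → p ∣ Nat.card X → L ≤ X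

theorem card_sylow_of_not_sq [Finite G] {p : ℕ} [hp : Fact p.Prime] (hd : p ∣ Nat.card G)
    (h2 : ¬ p * p ∣ Nat.card G) (P : Sylow p G) : Nat.card P = p := by
  have h1 : Nat.card P = p ^ (Nat.card G).factorization p := P.card_eq_multiplicity
  have h3 : (Nat.card G).factorization p = 1 := by
    apply le_antisymm
    · by_contra hlt
      apply h2
      rw [← pow_two]
      exact (hp.out.pow_dvd_iff_le_factorization Nat.card_pos.ne').2 (by omega)
    · exact (hp.out.dvd_iff_one_le_factorization Nat.card_pos.ne').1 hd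
  rw [h1, h3, pow_one]

/-- **Existence**: from a degree divisible by `p`. -/
theorem exists_qs [Finite G] {p : ℕ} [hp : Fact p.Prime] (h2 : ¬ p * p ∣ Nat.card G)
    (hT : Triv p (Nat.card G)) {d : ℕ} (hd : d ∈ charDegrees G) (hpd : p ∣ d) :
    ∃ L : Subgroup G, QS G p L := by
  obtain ⟨P⟩ : Nonempty (Sylow p G) := inferInstance
  have hP := card_sylow_of_not_sq (hpd.trans (dvd_card hd)) h2 P
  have hn : ¬ (P : Subgroup G).Normal := by
    intro hn
    have hc : IsCyclic (P : Subgroup G) := isCyclic_of_prime_card hP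
    have h3 := ito hd (P : Subgroup G) (fun a ha b hb =>
      congrArg Subtype.val ((IsCyclic.isMulCommutative (α := (P : Subgroup G))).is_comm.comm ⟨a, ha⟩ ⟨b, hb⟩))
    exact P.not_dvd_index (hpd.trans h3)
  obtain ⟨L, h1, -, h4, h5, h6, h7, h8, h9⟩ := Quasi.exists_quasisimple P hP hT hn
  exact ⟨L, h1, h4, h5, h6, h7, h8, h9⟩

theorem QS.card_mul {p : ℕ} {L : Subgroup G} (_ : QS G p L) :
    Nat.card (L ⧸ center L) * Nat.card (center L) * L.index = Nat.card G := by
  rw [← L.card_mul_index, ← (center L).index_mul_card]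
  rfl

theorem QS.exists_degree [Finite G] {p : ℕ} {L : Subgroup G} (h : QS G p L) {d m : ℕ}
    (hd : d ∈ charDegrees G) (hm : m ∣ d) (hc : m.Coprime L.index) :
    ∃ c ∈ charDegrees L, m ∣ c ∧ c ∣ d ∧ c ^ 2 ≤ Nat.card (L ⧸ center L) := by
  have := h.normal
  obtain ⟨c, h1, h2, h3⟩ := clifford_down L hd
  refine ⟨c, h1, ?_, h2, sq_le h1 (center L) le_rfl⟩
  have h4 : m ∣ c * (d / c) := by rw [Nat.mul_div_cancel' h2]; exact hm
  exact (Nat.Coprime.coprime_dvd_right h3 hc).dvd_of_dvd_mul_right h4

/-- The orders agree: `G` is simple. -/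
theorem QS.mulEquiv [Finite G] {p : ℕ} {L : Subgroup G} (h : QS G p L)
    (hc : Nat.card G ≤ Nat.card (L ⧸ center L)) : Nonempty (G ≃* L ⧸ center L) := by
  have h1 := h.card_mul
  have hz : 0 < Nat.card (center L) := Nat.card_pos
  have hi : 0 < L.index := Nat.pos_of_ne_zero index_ne_zero_of_finite
  have hq : 0 < Nat.card (L ⧸ center L) := Nat.card_pos
  have hz1 : Nat.card (center L) = 1 := by
    by_contra hne
    have : 2 ≤ Nat.card (center L) := by omega
    nlinarith [Nat.mul_le_mul (Nat.mul_le_mul_left (Nat.card (L ⧸ center L)) this) hi]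
  have hi1 : L.index = 1 := by
    rw [hz1, mul_one] at h1
    by_contra hne
    have : 2 ≤ L.index := by omega
    nlinarith [Nat.mul_le_mul_left (Nat.card (L ⧸ center L)) this]
  have hL : L = ⊤ := Subgroup.index_eq_one.1 hi1
  have hZ : center L = ⊥ := Subgroup.card_eq_one.1 hz1
  have e1 : G ≃* L := (Subgroup.topEquiv.symm).trans (MulEquiv.subgroupCongr hL.symm)
  have e2 : L ≃* L ⧸ center L :=
    (QuotientGroup.quotientBot.symm).trans (QuotientGroup.quotientMulEquivOfEq hZ.symm)
  exact ⟨e1.trans e2⟩

/-- Trivial Schur multiplier. -/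
theorem center_eq_bot_of_multiplier {X : Type} [Group X] (hX : HasCyclicSchurMultiplier X 1) {L : Type u} [Group L]
    [Finite L] (hp : commutator L = ⊤) (e : L ⧸ center L ≃* X) : center L = ⊥ := by
  let f : L →* X := e.toMonoidHom.comp (QuotientGroup.mk' (center L))
  have hf : f.ker = center L := by
    ext x
    rw [MonoidHom.mem_ker]
    show e (QuotientGroup.mk' (center L) x) = 1 ↔ _
    rw [map_eq_one_iff e e.injective]
    exact QuotientGroup.eq_one_iff x
  have hfs : Function.Surjective f := e.surjective.comp (QuotientGroup.mk'_surjective _)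
  -- a copy of `L` in `Type`
  let s : Shrink.{0} L ≃* L := Shrink.mulEquiv
  let g : Shrink.{0} L →* X := f.comp s.toMonoidHom
  have hfin : Finite (Shrink.{0} L) := Finite.of_equiv L s.symm.toEquiv
  have hstem : IsStemExtension g := by
    refine ⟨hfs.comp s.surjective, ?_, ?_⟩
    · intro x hx
      have h1 : s x ∈ center L := by
        rw [← hf]
        exact hx
      rw [mem_center_iff]
      intro y
      apply s.injective
      rw [map_mul, map_mul]
      exact mem_center_iff.1 h1 (s y)
    · have h1 : (commutator L).map s.symm.toMonoidHom = commutator (Shrink.{0} L) := by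
        rw [_root_.commutator_def, _root_.commutator_def, Subgroup.map_commutator,
          Subgroup.map_top_of_surjective _ s.symm.surjective]
      rw [hp, Subgroup.map_top_of_surjective _ s.symm.surjective] at h1
      rw [← h1]
      exact le_top
  obtain ⟨π, hπ⟩ := hX.2 (Shrink.{0} L) g hstem
  have h2 : Subsingleton g.ker := by
    refine ⟨fun a b => ?_⟩
    obtain ⟨a, rfl⟩ := hπ a
    obtain ⟨b, rfl⟩ := hπ b
    rw [Subsingleton.elim a b]
  rw [eq_bot_iff]
  intro x hx
  have h3 : s.symm x ∈ g.ker := by
    rw [MonoidHom.mem_ker]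
    show f (s (s.symm x)) = 1
    rw [s.apply_symm_apply]
    rw [← hf] at hx
    exact hx
  have h4 : (⟨s.symm x, h3⟩ : g.ker) = 1 := Subsingleton.elim _ _
  have h5 : s.symm x = 1 := congrArg Subtype.val h4
  rw [mem_bot]
  exact (map_eq_one_iff s.symm s.symm.injective).1 h5

/-- `L ≃* X` when `L / Z(L) ≃* X` has trivial multiplier. -/
theorem equiv_of_multiplier {X : Type} [Group X] (hX : HasCyclicSchurMultiplier X 1) {L : Type u} [Group L]
    [Finite L] (hp : commutator L = ⊤) (e : L ⧸ center L ≃* X) : Nonempty (L ≃* X) := by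
  have hZ := center_eq_bot_of_multiplier hX hp e
  exact ⟨((QuotientGroup.quotientBot.symm).trans (QuotientGroup.quotientMulEquivOfEq hZ.symm)).trans e⟩

end Cfsg.Agent.H417.DegQuasi
end

-- part: H417/CommPQ
section
set_option linter.all false
open scoped Cfsg.Agent.FastGrp

-- part: H417/Tricho
section
/-!
# A Sylow subgroup `P` of prime order which is not normal (helper417)

`tricho`: there is a normal subgroup `X` not centralized by `P`, with every smaller normal subgroup centralized by
`P` and by `X`, and one of the following holds: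
* `X` is an `r`-group, `r ≠ p`;
* `X` is quasisimple of order divisible by `p` (the structure `QS G p X`), or
* `X` is perfect of order prime to `p`, `X / Z(X) ≃* T ^ m`, with `T` nonabelian simple and a prime power
  `r ^ j ≡ 1` modulo `p` divides `|T| ^ m`.
-/

set_option autoImplicit false

namespace Cfsg.Agent.H417.Tricho

open Subgroup
open scoped commutatorElement
open Cfsg.Agent.H417.Quasi Cfsg.Agent.H417.DegQuasi

universe u

variable {G : Type u} [Group G]

/-- The index of the fixed points of a `p`-group on an `r`-group is a power of `r` congruent to one modulo `p`. -/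
theorem relIndex_centralizer [Finite G] {p : ℕ} [hp : Fact p.Prime] (P R : Subgroup G) (hP : IsPGroup p P)
    {r : ℕ} (hr : r.Prime) (hrp : r ≠ p) (hR : IsPGroup r R)
    (hPR : P ≤ normalizer (R : Set G)) :
    ∃ j, (centralizer (P : Set G)).relIndex R = r ^ j ∧ r ^ j % p = 1 := by
  have hrF := Fact.mk hr
  obtain ⟨a, hRa⟩ := IsPGroup.iff_card.1 hR
  let act : MulAction P R :=
    { smul := fun x y => ⟨(x : G) * y * (x : G)⁻¹, (mem_normalizer_iff.1 (hPR x.2) y).1 y.2⟩
      one_smul := fun y => Subtype.ext (by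
        show ((1 : P) : G) * y * ((1 : P) : G)⁻¹ = y
        simp)
      mul_smul := fun x x' y => Subtype.ext (by
        show ((x * x' : P) : G) * y * ((x * x' : P) : G)⁻¹ = x * (x' * y * (x' : G)⁻¹) * (x : G)⁻¹
        push_cast
        group) }
  have h1 := hP.card_modEq_card_fixedPoints R
  let C : Subgroup R := (centralizer (P : Set G)).subgroupOf R
  have hC : Nat.card (MulAction.fixedPoints P R) = Nat.card C := by
    refine Nat.card_congr (Equiv.subtypeEquivRight fun y => ?_)
    show (∀ x : P, x • y = y) ↔ (y : G) ∈ centralizer (P : Set G)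
    rw [mem_centralizer_iff]
    constructor
    · intro h x hx
      have h2 : ((⟨x, hx⟩ : P) : G) * y * ((⟨x, hx⟩ : P) : G)⁻¹ = y := congrArg Subtype.val (h ⟨x, hx⟩)
      simpa [mul_inv_eq_iff_eq_mul] using h2
    · intro h x
      refine Subtype.ext ?_
      show (x : G) * y * (x : G)⁻¹ = y
      rw [h x x.2, mul_inv_cancel_right]
  have hdvd : Nat.card C ∣ r ^ a := by
    rw [← hRa]
    exact Subgroup.card_subgroup_dvd_card C
  obtain ⟨c, hca, hc⟩ := (Nat.dvd_prime_pow hr).1 hdvd
  have hidx : (centralizer (P : Set G)).relIndex R = r ^ (a - c) := by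
    have h2 : Nat.card C * C.index = Nat.card R := C.card_mul_index
    rw [hc, hRa] at h2
    have h3 : r ^ c * r ^ (a - c) = r ^ a := by rw [← pow_add]; congr 1; omega
    rw [← h3] at h2
    exact Nat.eq_of_mul_eq_mul_left (Nat.pow_pos hr.pos) h2
  refine ⟨a - c, hidx, ?_⟩
  rw [hC, hRa, hc] at h1
  have h2 : r ^ (a - c) * r ^ c ≡ 1 * r ^ c [MOD p] := by
    rw [← pow_add, Nat.sub_add_cancel hca, one_mul]
    exact h1
  have hcop : Nat.gcd p (r ^ c) = 1 :=
    Nat.Coprime.pow_right _ ((Nat.coprime_primes hp.out hr).2 hrp.symm)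
  have h3 : r ^ (a - c) % p = 1 % p := Nat.ModEq.cancel_right_of_coprime hcop h2
  rw [h3, Nat.mod_eq_of_lt hp.out.one_lt]

/-- A normal `p'`-subgroup not centralized by `P`: there is a Sylow subgroup of it which is normalized but not
centralized by `P`. -/
theorem exists_not_centralized [Finite G] {p : ℕ} [hp : Fact p.Prime] (P : Sylow p G)
    (M : Subgroup G) [M.Normal] (hM : ¬ p ∣ Nat.card M) (hc : ¬ M ≤ centralizer ((P : Subgroup G) : Set G)) :
    ∃ (r : ℕ) (R : Subgroup G), r.Prime ∧ r ≠ p ∧ IsPGroup r R ∧ R ≤ M ∧ (P : Subgroup G) ≤ normalizer (R : Set G) ∧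
      ¬ R ≤ centralizer ((P : Subgroup G) : Set G) := by
  by_contra hcon
  push Not at hcon
  apply hc
  let C : Subgroup M := (centralizer ((P : Subgroup G) : Set G)).subgroupOf M
  have hC : C = ⊤ := by
    rw [← Subgroup.index_eq_one]
    by_contra hne
    obtain ⟨r, hr, hrd⟩ := Nat.exists_prime_and_dvd hne
    have : Fact r.Prime := ⟨hr⟩
    have hrp : r ≠ p := by
      rintro rfl
      exact hM (hrd.trans (Subgroup.index_dvd_card C))
    obtain ⟨R, hR⟩ := exists_normalized P M hM r
    have h1 := hcon r _ hr hrp (R.isPGroup'.map M.subtype) (map_subtype_le _) hR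
    have h2 : (R : Subgroup M) ≤ C := by
      intro x hx
      exact h1 ⟨x, hx, rfl⟩
    have h3 : ¬ r ∣ (R : Subgroup M).index := R.not_dvd_index
    exact h3 (hrd.trans (Subgroup.index_dvd_of_le h2))
  intro y hy
  have : (⟨y, hy⟩ : M) ∈ C := by rw [hC]; exact mem_top _
  exact this

/-- If `P` has order `p` and centralizes `⁅x, P⁆`, `x` of a group of order prime to `p`, then it centralizes `x`. -/
theorem coprime_comm [Finite G] {p : ℕ} [hp : Fact p.Prime] (P X K : Subgroup G) (hP : Nat.card P = p)
    (hX : ¬ p ∣ Nat.card X) (hKX : K ≤ X) (hK : K ≤ centralizer (P : Set G)) (hPX : ∀ x ∈ X, ∀ g ∈ P, ⁅x, g⁆ ∈ K) :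
    X ≤ centralizer (P : Set G) := by
  intro x hx
  rw [mem_centralizer_iff]
  intro g hg
  -- powers
  have key : ∀ n : ℕ, ⁅x, g ^ n⁆ = ⁅x, g⁆ ^ n := by
    intro n
    induction n with
    | zero => simp
    | succ n ih =>
      have h1 : ⁅x, g ^ (n + 1)⁆ = ⁅x, g ^ n⁆ * (g ^ n * ⁅x, g⁆ * (g ^ n)⁻¹) := by
        rw [commutatorElement_def, commutatorElement_def, commutatorElement_def, pow_succ]
        group
      have h2 : g ^ n * ⁅x, g⁆ = ⁅x, g⁆ * g ^ n :=
        mem_centralizer_iff.1 (hK (hPX x hx g hg)) _ (P.pow_mem hg n)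
      rw [h1, h2, mul_inv_cancel_right, ih, pow_succ]
  have h1 := key p
  have h2 : g ^ p = 1 := by
    have := pow_card_eq_one' (x := (⟨g, hg⟩ : P))
    rw [hP] at this
    exact congrArg Subtype.val this
  rw [h2, commutatorElement_one_right] at h1
  have h3 : orderOf ⁅x, g⁆ ∣ p := orderOf_dvd_of_pow_eq_one h1.symm
  have h4 : orderOf ⁅x, g⁆ ∣ Nat.card X := by
    have := orderOf_dvd_natCard (⟨⁅x, g⁆, hKX (hPX x hx g hg)⟩ : X)
    rwa [Subgroup.orderOf_mk] at this
  have h5 : ⁅x, g⁆ = 1 := by
    rcases (Nat.dvd_prime hp.out).1 h3 with h | h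
    · exact orderOf_eq_one_iff.1 h
    · exact absurd (h ▸ h4) hX
  exact (commutatorElement_eq_one_iff_mul_comm.1 h5).symm

/-- The minimal normal noncentralized subgroup. -/
theorem exists_min [Finite G] {p : ℕ} [hp : Fact p.Prime] (P : Sylow p G) (hP : Nat.card P = p)
    (hn : ¬ (P : Subgroup G).Normal) :
    ∃ X : Subgroup G, X.Normal ∧ ¬ X ≤ centralizer ((P : Subgroup G) : Set G) ∧
      (∀ Y : Subgroup G, Y.Normal → Y ≤ X → Y ≠ X → Y ≤ centralizer ((P : Subgroup G) : Set G)) ∧
      (∀ Y : Subgroup G, Y.Normal → Y ≤ X → Y ≠ X → Y ≤ centralizer (X : Set G)) ∧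
      (p ∣ Nat.card X → (P : Subgroup G) ≤ X ∧ ∀ Y : Subgroup G, Y.Normal → p ∣ Nat.card Y → X ≤ Y) := by
  have hexn : ∃ n, ∃ X : Subgroup G, (X.Normal ∧ ¬ X ≤ centralizer ((P : Subgroup G) : Set G)) ∧ Nat.card X = n := by
    refine ⟨_, ⊤, ⟨inferInstance, fun h => hn ⟨fun x hx g => ?_⟩⟩, rfl⟩
    have h1 := mem_centralizer_iff.1 (h (mem_top g)) x hx
    rw [← h1, mul_inv_cancel_right]
    exact hx
  classical
  obtain ⟨X, ⟨hXn, hXc⟩, hcard⟩ := Nat.find_spec hexn
  have hmin := fun m hm => Nat.find_min (m := m) hexn hm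
  have h2 : ∀ Y : Subgroup G, Y.Normal → Y ≤ X → Y ≠ X → Y ≤ centralizer ((P : Subgroup G) : Set G) := by
    intro Y hY hYX hne
    by_contra hc
    refine hmin (Nat.card Y) ?_ ⟨Y, ⟨hY, hc⟩, rfl⟩
    rw [← hcard]
    exact lt_of_le_of_ne (Subgroup.card_le_of_le hYX) fun h => hne (Subgroup.eq_of_le_of_card_ge hYX h.ge)
  let Q : Subgroup G := normalClosure ((P : Subgroup G) : Set G)
  have hPQ : (P : Subgroup G) ≤ Q := subset_normalClosure
  have hQle : ∀ Y : Subgroup G, Y.Normal → (P : Subgroup G) ≤ Y → Q ≤ Y := fun Y hY h =>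
    normalClosure_le_normal h
  have hQn : ∀ Y : Subgroup G, Y.Normal → Y ≤ centralizer ((P : Subgroup G) : Set G) → Y ≤ centralizer (Q : Set G) := by
    intro Y hY h
    rw [Subgroup.le_centralizer_iff] at h ⊢
    exact hQle _ inferInstance h
  refine ⟨X, hXn, hXc, h2, ?_, ?_⟩
  · intro Y hY hYX hne
    have hYP := h2 Y hY hYX hne
    have hYQ := hQn Y hY hYP
    by_cases hpX : p ∣ Nat.card X
    · have hPX := le_of_dvd P hP X hpX
      have hQX : Q = X := by
        by_contra hQne
        have h3 := h2 Q inferInstance (hQle X hXn hPX) hQne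
        -- `P` is normal
        apply hn
        have h4 : ((P.subtype hPQ : Sylow p Q) : Subgroup Q).Normal := by
          refine ⟨fun x hx g => ?_⟩
          have h5 : (x : G) * g = g * x := mem_centralizer_iff.1 (h3 g.2) x hx
          have h6 : g * x * g⁻¹ = x := by
            apply Subtype.ext
            show (g : G) * x * (g : G)⁻¹ = x
            rw [← h5, mul_inv_cancel_right]
          rw [h6]
          exact hx
        have h5 : ((P.subtype hPQ : Sylow p Q) : Subgroup Q).Characteristic := Sylow.characteristic_of_normal _ h4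
        have h6 : ((((P.subtype hPQ : Sylow p Q) : Subgroup Q)).map Q.subtype).Normal := inferInstance
        rw [Sylow.coe_subtype, Subgroup.subgroupOf_map_subtype, inf_eq_left.2 hPQ] at h6
        exact h6
      rw [← hQX]
      exact hYQ
    · -- coprime case
      have hK : (⁅X, Q⁆ : Subgroup G) = X := by
        by_contra hKne
        have hKX : (⁅X, Q⁆ : Subgroup G) ≤ X := commutator_le_left X Q
        have h3 := h2 ⁅X, Q⁆ inferInstance hKX hKne
        exact hXc (coprime_comm (P : Subgroup G) X _ hP hpX hKX h3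
          fun x hx g hg => commutator_mem_commutator hx (hPQ hg))
      rw [Subgroup.le_centralizer_iff, ← hK, ← commutator_eq_bot_iff_le_centralizer]
      apply commutator_commutator_eq_bot_of_rotate
      · rw [commutator_eq_bot_iff_le_centralizer.2 (le_centralizer_iff.1 hYQ), commutator_bot_left]
      · rw [commutator_eq_bot_iff_le_centralizer]
        exact (commutator_le_left Y X).trans hYQ
  · intro hpX
    have hPX := le_of_dvd P hP X hpX
    refine ⟨hPX, fun Y hY hpY => ?_⟩
    have hPY := le_of_dvd P hP Y hpY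
    by_contra hXY
    have h3 := h2 (X ⊓ Y) inferInstance inf_le_left fun h => hXY (inf_eq_left.1 h)
    -- `P ≤ X ⊓ Y`, normal, centralized by `P`
    apply hn
    have hPI : (P : Subgroup G) ≤ X ⊓ Y := le_inf hPX hPY
    have h4 : ((P.subtype hPI : Sylow p (X ⊓ Y : Subgroup G)) : Subgroup (X ⊓ Y : Subgroup G)).Normal := by
      refine ⟨fun x hx g => ?_⟩
      have h5 : (x : G) * g = g * x := mem_centralizer_iff.1 (h3 g.2) x hx
      have h6 : g * x * g⁻¹ = x := by
        apply Subtype.ext
        show (g : G) * x * (g : G)⁻¹ = x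
        rw [← h5, mul_inv_cancel_right]
      rw [h6]
      exact hx
    have h5 : ((P.subtype hPI : Sylow p (X ⊓ Y : Subgroup G)) : Subgroup (X ⊓ Y : Subgroup G)).Characteristic :=
      Sylow.characteristic_of_normal _ h4
    have h6 : ((((P.subtype hPI : Sylow p (X ⊓ Y : Subgroup G)) : Subgroup (X ⊓ Y : Subgroup G))).map
      (X ⊓ Y).subtype).Normal := inferInstance
    rw [Sylow.coe_subtype, Subgroup.subgroupOf_map_subtype, inf_eq_left.2 hPI] at h6
    exact h6

theorem factorization_eq_one [Finite G] {p : ℕ} [hp : Fact p.Prime] (P : Sylow p G) (hP : Nat.card P = p) :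
    (Nat.card G).factorization p = 1 := by
  have h1 : Nat.card P = p ^ (Nat.card G).factorization p := P.card_eq_multiplicity
  rw [hP] at h1
  have h2 : p ^ 1 = p ^ (Nat.card G).factorization p := by rw [pow_one]; exact h1
  exact (Nat.pow_right_injective hp.out.two_le h2).symm

theorem not_sq_dvd [Finite G] {p : ℕ} [hp : Fact p.Prime] (P : Sylow p G) (hP : Nat.card P = p) :
    ¬ p ^ 2 ∣ Nat.card G := by
  rw [hp.out.pow_dvd_iff_le_factorization Nat.card_pos.ne', factorization_eq_one P hP]
  norm_num

/-- the map `X / Z(X) ≃* X Z / Z` -/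
theorem quot_equiv (X Z : Subgroup G) [Z.Normal] (hZ : Z = (center X).map X.subtype) :
    Nonempty (X ⧸ center X ≃* X.map (QuotientGroup.mk' Z)) := by
  let f : X →* G ⧸ Z := (QuotientGroup.mk' Z).comp X.subtype
  have hker : f.ker = center X := by
    ext x
    rw [MonoidHom.mem_ker]
    show QuotientGroup.mk' Z (x : G) = 1 ↔ _
    rw [QuotientGroup.mk'_apply, QuotientGroup.eq_one_iff, hZ]
    constructor
    · rintro ⟨y, hy, hyx⟩
      have : y = x := Subtype.ext hyx
      rwa [← this]
    · intro h
      exact ⟨x, h, rfl⟩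
  have hrange : f.range = X.map (QuotientGroup.mk' Z) := by
    rw [MonoidHom.range_comp, Subgroup.range_subtype]
  exact ⟨(QuotientGroup.quotientMulEquivOfEq hker.symm).trans
    ((QuotientGroup.quotientKerEquivRange f).trans (MulEquiv.subgroupCongr hrange))⟩

/-- **The trichotomy.** -/
theorem tricho [Finite G] {p : ℕ} [hp : Fact p.Prime] (P : Sylow p G) (hP : Nat.card P = p)
    (hn : ¬ (P : Subgroup G).Normal) :
    ∃ X : Subgroup G, X.Normal ∧ ¬ X ≤ centralizer ((P : Subgroup G) : Set G) ∧
      ((∃ r, r.Prime ∧ r ≠ p ∧ IsPGroup r X ∧ ∃ j, 1 ≤ j ∧ r ^ j ∣ Nat.card X ∧ r ^ j % p = 1) ∨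
      (commutator X = ⊤ ∧ ∃ (T : Type u) (_ : Group T) (_ : Finite T) (m : ℕ), IsSimpleGroup T ∧
        (¬ ∀ a b : T, a * b = b * a) ∧ 0 < m ∧ Nonempty (X ⧸ center X ≃* (Fin m → T)) ∧
        ((QS G p X ∧ m = 1) ∨ (¬ p ∣ Nat.card X ∧
          ∃ r j, r.Prime ∧ r ≠ p ∧ 1 ≤ j ∧ r ^ j ∣ Nat.card T ^ m ∧ r ^ j % p = 1)))) := by
  obtain ⟨X, hXn, hXc, hminP, hminX, hdvd⟩ := exists_min P hP hn
  refine ⟨X, hXn, hXc, ?_⟩
  by_cases hcomm : commutator X = ⊤
  · right
    refine ⟨hcomm, ?_⟩
    set Z : Subgroup G := (center X).map X.subtype with hZ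
    have hZn : Z.Normal := inferInstance
    have hZX : Z ≤ X := map_subtype_le _
    have hnotab : ¬ ∀ a b : X ⧸ center X, a * b = b * a := by
      intro hab
      have h1 : commutator X ≤ center X := by
        rw [_root_.commutator_def, Subgroup.commutator_le]
        intro a _ b _
        have h2 := hab (a : X ⧸ center X) b
        rw [← QuotientGroup.eq_one_iff]
        rw [commutatorElement_def]
        show (a : X ⧸ center X) * b * (a : X ⧸ center X)⁻¹ * (b : X ⧸ center X)⁻¹ = 1
        rw [h2, mul_inv_cancel_right, mul_inv_cancel]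
      rw [hcomm, top_le_iff] at h1
      have h2 : commutator X = ⊥ := by
        rw [_root_.commutator_def, commutator_eq_bot_iff_le_centralizer]
        intro x _
        rw [mem_centralizer_iff]
        intro y _
        have h3 : x ∈ center X := by rw [h1]; exact mem_top _
        exact mem_center_iff.1 h3 y
      rw [hcomm] at h2
      apply hXc
      intro x hx
      have h3 : (⟨x, hx⟩ : X) ∈ (⊥ : Subgroup X) := by rw [← h2]; exact mem_top _
      rw [mem_bot] at h3
      have h4 : x = 1 := congrArg Subtype.val h3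
      rw [h4]
      exact one_mem _
    have hZne : Z ≠ X := by
      intro h
      apply hnotab
      have h1 : center X = ⊤ := by
        rw [eq_top_iff]
        intro x _
        have : (x : G) ∈ Z := by rw [h]; exact x.2
        obtain ⟨y, hy, hyx⟩ := this
        have h2 : y = x := Subtype.ext hyx
        rwa [← h2]
      intro a b
      have h2 : Subsingleton (X ⧸ center X) := by
        rw [h1]
        exact QuotientGroup.subsingleton_quotient_top
      exact Subsingleton.elim _ _
    set N : Subgroup (G ⧸ Z) := X.map (QuotientGroup.mk' Z) with hN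
    have hNn : N.Normal := Subgroup.Normal.map hXn _ (QuotientGroup.mk'_surjective Z)
    have hcomapN : N.comap (QuotientGroup.mk' Z) = X := by
      rw [hN, Subgroup.comap_map_eq, QuotientGroup.ker_mk', sup_eq_left]
      exact hZX
    have hNbot : N ≠ ⊥ := by
      intro h
      rw [h] at hcomapN
      apply hZne
      rw [← hcomapN, MonoidHom.comap_bot, QuotientGroup.ker_mk']
    have hNmin : ∀ M : Subgroup (G ⧸ Z), M.Normal → M ≤ N → M = ⊥ ∨ M = N := by
      intro M hM hMN
      have h1 : (M.comap (QuotientGroup.mk' Z)).Normal := hM.comap _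
      have h2 : M.comap (QuotientGroup.mk' Z) ≤ X := by
        rw [← hcomapN]
        exact Subgroup.comap_mono hMN
      by_cases h3 : M.comap (QuotientGroup.mk' Z) = X
      · right
        rw [hN, ← h3, Subgroup.map_comap_eq_self_of_surjective (QuotientGroup.mk'_surjective Z)]
      · left
        have h4 := hminX _ h1 h2 h3
        have h5 : M.comap (QuotientGroup.mk' Z) ≤ Z := by
          intro x hx
          refine ⟨⟨x, h2 hx⟩, ?_, rfl⟩
          rw [SetLike.mem_coe, mem_center_iff]
          intro g
          exact Subtype.ext (mem_centralizer_iff.1 (h4 hx) g g.2)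
        rw [eq_bot_iff]
        intro y hy
        obtain ⟨x, rfl⟩ := QuotientGroup.mk'_surjective Z y
        exact (QuotientGroup.eq_one_iff x).2 (h5 hy)
    obtain ⟨T, m, hTN, hTs, hm, ⟨e⟩⟩ := Lib.MinNormal.exists_mulEquiv_pi N hNbot hNmin
    obtain ⟨e1⟩ := quot_equiv X Z hZ
    have e2 : X ⧸ center X ≃* (Fin m → T) := e1.trans e
    have hTna : ¬ ∀ a b : T, a * b = b * a := by
      intro h
      apply hnotab
      intro a b
      apply e2.injective
      rw [map_mul, map_mul]
      funext i
      exact h _ _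
    have hcard : Nat.card (X ⧸ center X) = Nat.card T ^ m := by
      rw [Nat.card_congr e2.toEquiv, Nat.card_fun, Nat.card_fin]
    refine ⟨T, inferInstance, inferInstance, m, hTs, hTna, hm, ⟨e2⟩, ?_⟩
    by_cases hpX : p ∣ Nat.card X
    · left
      obtain ⟨hPX, hle⟩ := hdvd hpX
      have hcen : ¬ p ∣ Nat.card (center X) := by
        intro h
        apply hZne
        refine le_antisymm hZX (hle Z hZn ?_)
        have h1 : Nat.card Z = Nat.card (center X) := 
          Nat.card_congr ((center X).equivMapOfInjective X.subtype X.subtype_injective).toEquiv.symm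
        rw [h1]
        exact h
      have hq : p ∣ Nat.card (X ⧸ center X) := by
        have h1 := (center X).card_mul_index
        rw [Subgroup.index] at h1
        rw [← h1] at hpX
        exact (hp.out.dvd_mul.1 hpX).resolve_left hcen
      have hpT : p ∣ Nat.card T := by
        rw [hcard] at hq
        exact hp.out.dvd_of_dvd_pow hq
      have hm1 : m = 1 := by
        by_contra hne
        have h2 : 2 ≤ m := by omega
        have h3 : p ^ 2 ∣ Nat.card G := by
          refine (pow_dvd_pow p h2).trans ((pow_dvd_pow_of_dvd hpT m).trans ?_)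
          rw [← hcard]
          exact (Subgroup.card_quotient_dvd_card _).trans (Subgroup.card_subgroup_dvd_card X)
        exact not_sq_dvd P hP h3
      subst hm1
      have e3 : X ⧸ center X ≃* T := e2.trans (MulEquiv.piUnique (fun _ : Fin 1 => (T : Type u)))
      have hsim : IsSimpleGroup (X ⧸ center X) := by
        have : Nontrivial (X ⧸ center X) := e3.toEquiv.nontrivial
        exact IsSimpleGroup.isSimpleGroup_of_surjective e3.symm.toMonoidHom e3.symm.surjective
      exact ⟨⟨hXn, hcomm, hsim, hcen, hq, hnotab, hle⟩, rfl⟩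
    · right
      refine ⟨hpX, ?_⟩
      obtain ⟨r, R, hr, hrp, hRr, hRX, hRn, hRc⟩ := exists_not_centralized P X hpX hXc
      obtain ⟨j, hj, hj1⟩ := relIndex_centralizer (P : Subgroup G) R P.isPGroup' hr hrp hRr hRn
      refine ⟨r, j, hr, hrp, ?_, ?_, hj1⟩
      · by_contra hj0
        have : j = 0 := by omega
        rw [this, pow_zero, relIndex_eq_one] at hj
        exact hRc hj
      · rw [← hj, ← hcard]
        have h1 : Z ≤ centralizer ((P : Subgroup G) : Set G) := hminP Z hZn hZX hZne
        have h2 := relIndex_dvd_of_le_left R h1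
        have h3 : Z.relIndex R = Z.relIndex (R ⊔ Z) := (relIndex_sup_right R Z).symm
        have h4 := relIndex_mul_relIndex Z (R ⊔ Z) X le_sup_right (sup_le hRX hZX)
        have h5 : Z.relIndex X = Nat.card (X ⧸ center X) := by
          rw [relIndex, hZ]
          have : ((center X).map X.subtype).subgroupOf X = center X :=
            Subgroup.comap_map_eq_self_of_injective X.subtype_injective _
          rw [this]
          rfl
        rw [← h5, ← h4, ← h3]
        exact h2.trans (dvd_mul_right _ _)
  · left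
    have hne : (⁅X, X⁆ : Subgroup G) ≠ X := by
      intro h
      apply hcomm
      rw [eq_top_iff]
      intro x _
      have h1 : (commutator X).map X.subtype = X := by
        rw [_root_.commutator_def, Subgroup.map_commutator, ← MonoidHom.range_eq_map, Subgroup.range_subtype]
        exact h
      have h2 : (x : G) ∈ (commutator X).map X.subtype := by rw [h1]; exact x.2
      obtain ⟨y, hy, hyx⟩ := h2
      have h3 : y = x := Subtype.ext hyx
      rwa [← h3]
    have hcX := hminX ⁅X, X⁆ inferInstance (commutator_le_left X X) hne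
    have hnil : Group.IsNilpotent X := by
      apply Group.of_quotient_center_nilpotent
      have h5 : ∀ a b : X ⧸ center X, a * b = b * a := by
        intro a b
        obtain ⟨a, rfl⟩ := QuotientGroup.mk_surjective a
        obtain ⟨b, rfl⟩ := QuotientGroup.mk_surjective b
        rw [← QuotientGroup.mk_mul, ← QuotientGroup.mk_mul, eq_comm, QuotientGroup.eq, mem_center_iff]
        intro g
        apply Subtype.ext
        have h6 : (((b * a)⁻¹ * (a * b) : X) : G) = ⁅(a : G)⁻¹, (b : G)⁻¹⁆ := by
          rw [commutatorElement_def]; push_cast; group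
        have h7 : (((b * a)⁻¹ * (a * b) : X) : G) ∈ centralizer (X : Set G) := by
          rw [h6]
          exact hcX (commutator_mem_commutator (X.inv_mem a.2) (X.inv_mem b.2))
        exact mem_centralizer_iff.1 h7 g g.2
      let _ : CommGroup (X ⧸ center X) := { (inferInstance : Group (X ⧸ center X)) with mul_comm := h5 }
      exact CommGroup.isNilpotent
    have hpX : ¬ p ∣ Nat.card X := by
      intro h
      obtain ⟨hPX, -⟩ := hdvd h
      apply hn
      have h4 : ((P.subtype hPX : Sylow p X) : Subgroup X).Normal :=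
        inferInstance
      have h5 : ((P.subtype hPX : Sylow p X) : Subgroup X).Characteristic := Sylow.characteristic_of_normal _ h4
      have h6 : ((((P.subtype hPX : Sylow p X) : Subgroup X)).map X.subtype).Normal := inferInstance
      rw [Sylow.coe_subtype, Subgroup.subgroupOf_map_subtype, inf_eq_left.2 hPX] at h6
      exact h6
    obtain ⟨r, R, hr, hrp, hRr, hRX, hRn, hRc⟩ := exists_not_centralized P X hpX hXc
    have hrF := Fact.mk hr
    -- the Sylow `r`-subgroup of `X`
    have hRr' : IsPGroup r (R.subgroupOf X) := hRr.comap_of_injective X.subtype X.subtype_injective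
    obtain ⟨S, hS⟩ := hRr'.exists_le_sylow
    have h4 : (S : Subgroup X).Normal := inferInstance
    have h5 : (S : Subgroup X).Characteristic := Sylow.characteristic_of_normal _ h4
    have h6 : ((S : Subgroup X).map X.subtype).Normal := inferInstance
    have h7 : (S : Subgroup X).map X.subtype = X := by
      by_contra hne'
      have h8 := hminP _ h6 (map_subtype_le _) hne'
      apply hRc
      intro x hx
      exact h8 ⟨⟨x, hRX hx⟩, hS hx, rfl⟩
    have hXr : IsPGroup r X := by
      have := S.isPGroup'.map X.subtype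
      rwa [h7] at this
    refine ⟨r, hr, hrp, hXr, ?_⟩
    obtain ⟨j, hj, hj1⟩ := relIndex_centralizer (P : Subgroup G) X P.isPGroup' hr hrp hXr
      (by rw [Subgroup.normalizer_eq_top X]; exact le_top)
    refine ⟨j, ?_, ?_, hj1⟩
    · by_contra hj0
      have : j = 0 := by omega
      rw [this, pow_zero, relIndex_eq_one] at hj
      exact hXc hj
    · rw [← hj]
      exact relIndex_dvd_card _ _

end Cfsg.Agent.H417.Tricho
end

-- part: H417/CommPQ
section
/-!
# Commuting elements of orders `p` and `q` (helper417)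

`exists_commute`: `p` and `q` divide `|C|` exactly once, `p ∤ q - 1`, `q ∤ p - 1`, and no nonabelian simple group of order
dividing `|C|` has order divisible by `p q`: there are commuting elements of orders `p` and `q`.
-/

set_option autoImplicit false

namespace Cfsg.Agent.H417.CommPQ

open Subgroup
open Cfsg.Agent.H417.Quasi

universe u

/-- commuting elements of order `p` and `q` -/
def Com (p q : ℕ) (C : Type u) [Group C] : Prop := ∃ x y : C, orderOf x = p ∧ orderOf y = q ∧ Commute x y

theorem Com.symm {p q : ℕ} {C : Type u} [Group C] (h : Com p q C) : Com q p C := by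
  obtain ⟨x, y, hx, hy, h⟩ := h
  exact ⟨y, x, hy, hx, h.symm⟩

theorem Com.of_subgroup {p q : ℕ} {C : Type u} [Group C] (M : Subgroup C) (h : Com p q M) : Com p q C := by
  obtain ⟨x, y, hx, hy, h⟩ := h
  refine ⟨x, y, by rw [Subgroup.orderOf_coe, hx], by rw [Subgroup.orderOf_coe, hy], ?_⟩
  exact congrArg Subtype.val h

theorem card_sylow {G : Type u} [Group G] [Finite G] {p : ℕ} [hp : Fact p.Prime] (hd : p ∣ Nat.card G)
    (h2 : ¬ p ^ 2 ∣ Nat.card G) (P : Sylow p G) : Nat.card P = p :=
  DegQuasi.card_sylow_of_not_sq hd (by rw [← pow_two]; exact h2) P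

/-- An element of order `q` normalizing a subgroup of order `p` centralizes it when `q ∤ p - 1`. -/
theorem commute_of_normalizes {G : Type u} [Group G] [Finite G] {p q : ℕ} (hp : p.Prime) (hq : q.Prime)
    (hqp : ¬ q ∣ p - 1) {P : Subgroup G} (hP : Nat.card P = p) {y : G} (hy : orderOf y = q)
    (hyP : y ∈ normalizer (P : Set G)) : y ∈ centralizer (P : Set G) := by
  have := Fact.mk hp
  have hcyc : IsCyclic P := isCyclic_of_prime_card hP
  let f : normalizer (P : Set G) →* MulAut P := normalizerMonoidHom P
  have hk : f.ker = (centralizer (P : Set G)).subgroupOf (normalizer (P : Set G)) := normalizerMonoidHom_ker _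
  have h4 : Nat.card (MulAut P) = p - 1 := by
    rw [IsCyclic.card_mulAut, hP, Nat.totient_prime hp]
  have h5 : orderOf (f ⟨y, hyP⟩) ∣ p - 1 := by
    rw [← h4]; exact orderOf_dvd_natCard _
  have h6 : orderOf (f ⟨y, hyP⟩) ∣ q := by
    have := orderOf_map_dvd f ⟨y, hyP⟩
    rwa [Subgroup.orderOf_mk, hy] at this
  rcases (Nat.dvd_prime hq).1 h6 with h | h
  · have h7 : (⟨y, hyP⟩ : normalizer (P : Set G)) ∈ f.ker := orderOf_eq_one_iff.1 h
    rw [hk] at h7
    exact h7
  · rw [h] at h5
    exact absurd h5 hqp

/-- the Frattini argument -/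
theorem com_of_normal {C : Type u} [Group C] [Finite C] {p q : ℕ} [hp : Fact p.Prime] [hq : Fact q.Prime]
    (hqp : ¬ q ∣ p - 1) (M : Subgroup C) [M.Normal] (hpM : p ∣ Nat.card M) (hp2 : ¬ p ^ 2 ∣ Nat.card C)
    (hqM : ¬ q ∣ Nat.card M) (hqC : q ∣ Nat.card C) : Com p q C := by
  obtain ⟨P⟩ : Nonempty (Sylow p M) := inferInstance
  have hF := P.normalizer_sup_eq_top
  set N : Subgroup C := normalizer ((P : Subgroup M).map M.subtype : Set C) with hN
  have hPc : Nat.card P = p := card_sylow hpM (fun h => hp2 (h.trans (card_subgroup_dvd_card M))) P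
  have hPc' : Nat.card ((P : Subgroup M).map M.subtype) = p := by
    refine Eq.trans ?_ hPc
    exact Nat.card_congr ((P : Subgroup M).equivMapOfInjective M.subtype M.subtype_injective).toEquiv.symm
  have hqN : q ∣ Nat.card N := by
    have h1 : M.relIndex N = M.index := by
      rw [← relIndex_sup_right, hF, relIndex_top_right]
    have h2 := M.card_mul_index
    have h3 : q ∣ M.index := by
      rw [← h2] at hqC
      exact (hq.out.dvd_mul.1 hqC).resolve_left hqM
    rw [← h1] at h3
    exact h3.trans (relIndex_dvd_card _ _)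
  obtain ⟨y, hy⟩ := exists_prime_orderOf_dvd_card' q hqN
  have hy' : orderOf (y : C) = q := by rw [Subgroup.orderOf_coe, hy]
  have hc := commute_of_normalizes hp.out hq.out hqp hPc' hy' y.2
  obtain ⟨x, hx⟩ := exists_prime_orderOf_dvd_card' (G := ((P : Subgroup M).map M.subtype)) p (by rw [hPc'])
  refine ⟨x, y, by rw [Subgroup.orderOf_coe, hx], hy', ?_⟩
  exact mem_centralizer_iff.1 hc x x.2

theorem exists_commute {p q : ℕ} [hp : Fact p.Prime] [hq : Fact q.Prime] (hqp : ¬ q ∣ p - 1) (hpq : ¬ p ∣ q - 1)
    (hne : p ≠ q) (n : ℕ) : ∀ (C : Type u) [Group C] [Finite C], Nat.card C = n →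
    p ∣ n → q ∣ n → ¬ p ^ 2 ∣ n → ¬ q ^ 2 ∣ n →
    (∀ (T : Type u) [Group T] [Finite T], IsSimpleGroup T → (¬ ∀ a b : T, a * b = b * a) → Nat.card T ∣ n →
      ¬ p * q ∣ Nat.card T) → Com p q C := by
  induction n using Nat.strong_induction_on with
  | _ n ih =>
  intro C _ _ hC hpn hqn hp2 hq2 hT
  subst hC
  have hpqd : p * q ∣ Nat.card C :=
    Nat.Coprime.mul_dvd_of_dvd_of_dvd ((Nat.coprime_primes hp.out hq.out).2 hne) hpn hqn
  have hnt : Nontrivial C := by
    rw [← Finite.one_lt_card_iff_nontrivial]
    exact lt_of_lt_of_le hp.out.one_lt (Nat.le_of_dvd Nat.card_pos hpn)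
  by_cases hs : IsSimpleGroup C
  · exfalso
    by_cases hab : ∀ a b : C, a * b = b * a
    · let _ : CommGroup C := { (inferInstance : Group C) with mul_comm := hab }
      have h1 : (Nat.card C).Prime := IsSimpleGroup.prime_card
      have h2 := (Nat.prime_dvd_prime_iff_eq hp.out h1).1 hpn
      have h3 := (Nat.prime_dvd_prime_iff_eq hq.out h1).1 hqn
      exact hne (h2.trans h3.symm)
    · exact hT C hs hab dvd_rfl hpqd
  · obtain ⟨M, hM, hM1, hM2⟩ : ∃ M : Subgroup C, M.Normal ∧ M ≠ ⊥ ∧ M ≠ ⊤ := by
      by_contra hcon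
      push Not at hcon
      exact hs { exists_pair_ne := hnt.exists_pair_ne,
                 eq_bot_or_eq_top_of_normal := fun H hH => by
                  by_cases h : H = ⊥
                  · exact Or.inl h
                  · exact Or.inr (hcon H hH h) }
    have hcM : Nat.card M * M.index = Nat.card C := M.card_mul_index
    by_cases hpM : p ∣ Nat.card M
    · by_cases hqM : q ∣ Nat.card M
      · refine Com.of_subgroup M (ih (Nat.card M) ?_ M rfl hpM hqM
          (fun h => hp2 (h.trans (card_subgroup_dvd_card M))) (fun h => hq2 (h.trans (card_subgroup_dvd_card M)))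
          fun T _ _ h1 h2 h3 => hT T h1 h2 (h3.trans (card_subgroup_dvd_card M)))
        refine lt_of_le_of_ne (Nat.le_of_dvd Nat.card_pos (card_subgroup_dvd_card M)) fun h => hM2 ?_
        exact Subgroup.eq_top_of_card_eq M h
      · exact com_of_normal hqp M hpM hp2 hqM hqn
    · by_cases hqM : q ∣ Nat.card M
      · exact (com_of_normal hpq M hqM hq2 hpM hpn).symm
      · -- the quotient
        have hqc : Nat.card (C ⧸ M) = M.index := rfl
        have hpi : p ∣ Nat.card (C ⧸ M) := by
          rw [← hcM] at hpn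
          exact (hp.out.dvd_mul.1 hpn).resolve_left hpM
        have hqi : q ∣ Nat.card (C ⧸ M) := by
          rw [← hcM] at hqn
          exact (hq.out.dvd_mul.1 hqn).resolve_left hqM
        have hdq : Nat.card (C ⧸ M) ∣ Nat.card C := card_quotient_dvd_card M
        obtain ⟨x, y, hx, hy, hxy⟩ := ih (Nat.card (C ⧸ M)) (by
            refine lt_of_le_of_ne (Nat.le_of_dvd Nat.card_pos hdq) fun h => hM1 ?_
            rw [hqc] at h
            rw [h] at hcM
            have : Nat.card M = 1 := by
              have h0 : 0 < Nat.card C := Nat.card_pos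
              exact Nat.eq_of_mul_eq_mul_right h0 (by rw [hcM, one_mul])
            exact Subgroup.card_eq_one.1 this) (C ⧸ M) rfl hpi hqi
          (fun h => hp2 (h.trans hdq)) (fun h => hq2 (h.trans hdq))
          fun T _ _ h1 h2 h3 => hT T h1 h2 (h3.trans hdq)
        -- the preimage of `⟨x⟩`
        let f := QuotientGroup.mk' M
        have hf : Function.Surjective f := QuotientGroup.mk'_surjective M
        let B : Subgroup C := (zpowers x).comap f
        have hBcard : Nat.card B = p * Nat.card M := by
          have h1 := B.card_mul_index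
          have h2 : B.index = (zpowers x).index := index_comap_of_surjective _ hf
          have h3 := (zpowers x).card_mul_index
          rw [Nat.card_zpowers, hx] at h3
          have h4 : 0 < (zpowers x).index := Nat.pos_of_ne_zero index_ne_zero_of_finite
          rw [h2, ← hcM, ← hqc, ← h3] at h1
          apply Nat.eq_of_mul_eq_mul_right h4
          rw [h1]
          ring
        obtain ⟨y0, hy0⟩ := hf y
        let N : Subgroup C := normalizer (B : Set C)
        have hyN : y0 ∈ N := by
          rw [mem_normalizer_iff]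
          intro b
          show f b ∈ zpowers x ↔ f (y0 * b * y0⁻¹) ∈ zpowers x
          rw [map_mul, map_mul, map_inv, hy0]
          constructor
          · rintro ⟨k, hk⟩
            refine ⟨k, ?_⟩
            have hk' : x ^ k = f b := hk
            show x ^ k = _
            rw [← hk', (hxy.zpow_left k).eq.symm, mul_inv_cancel_right]
          · rintro ⟨k, hk⟩
            refine ⟨k, ?_⟩
            have hk' : x ^ k = y * f b * y⁻¹ := hk
            show x ^ k = _
            have h1 : f b = y⁻¹ * x ^ k * y := by rw [hk']; group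
            rw [h1, mul_assoc, (hxy.zpow_left k).eq, inv_mul_cancel_left]
        have hBN : B ≤ N := le_normalizer
        have hBN' : Nat.card (B.subgroupOf N) = p * Nat.card M := by
          rw [← hBcard]
          exact Nat.card_congr (subgroupOfEquivOfLe hBN).toEquiv
        have : (B.subgroupOf N).Normal := normal_in_normalizer
        refine Com.of_subgroup N (com_of_normal hqp (B.subgroupOf N) (by rw [hBN']; exact dvd_mul_right _ _)
          (fun h => hp2 (h.trans (card_subgroup_dvd_card N))) ?_ ?_)
        · rw [hBN']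
          intro h
          rcases hq.out.dvd_mul.1 h with h1 | h1
          · exact hne ((Nat.prime_dvd_prime_iff_eq hq.out hp.out).1 h1).symm
          · exact hqM h1
        · have h1 : q ∣ orderOf (⟨y0, hyN⟩ : N) := by
            rw [Subgroup.orderOf_mk, ← hy, ← hy0]
            exact orderOf_map_dvd f y0
          exact h1.trans (orderOf_dvd_natCard _)

end Cfsg.Agent.H417.CommPQ
end
end
end
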