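import Cfsg.Agent.SporadicA.M11Facts2
import Cfsg.Agent.H424.DegTools
import Cfsg.Agent.Prune
set_option linter.all false
prune_inst 0x7f00000000000000000000000000000000000000000000000000000000000000000000000000000000000000000000000000000000000000000000000000000000000000000000000000000000000000003fffffffffffffffffffffffffffbeffbdffffffff
open scoped Cfsg.Agent.FastGrp

/-!
# The degrees of the irreducible characters of the Mathieu group of degree 11 (helper417)

`degrees` : a simple group of order 7920 has the character degrees `1, 10, 11, 16, 44, 45, 55`.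
-/

set_option autoImplicit false

namespace Cfsg.Agent.H417.DegMEleven

open Cfsg Cfsg.Agent.Characters.Core Cfsg.Agent.SporadicA.M11Block Cfsg.Agent.SporadicA.M11Rel
  Cfsg.Agent.SporadicA.M11Facts Cfsg.Agent.SporadicA.M11Facts2
  Cfsg.Agent.SporadicA.M11Cent
open scoped ComplexConjugate

universe u
variable {G : Type u} [Group G] [Finite G]

set_option maxHeartbeats 1000000 in
/-- The degrees by enumeration of the characters. -/
theorem key (hG : Cfsg.IsM11 G) : (∃ χ : IrrCharacter G, (χ : G → ℂ) 1 = 55) ∧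
    ∀ (χ : IrrCharacter G) (d : ℕ), (χ : G → ℂ) 1 = d → d ∈ [1, 10, 11, 16, 44, 45, 55] := by
  classical
  have := finite_irr (G := G)
  have := Fintype.ofFinite (IrrCharacter G)
  obtain ⟨y, hy⟩ : ∃ y : G, orderOf y = 5 := by
    have : Fact (Nat.Prime 5) := ⟨by norm_num⟩
    exact exists_prime_orderOf_dvd_card' 5 (by rw [hG.2]; norm_num)
  obtain ⟨x, hx, v, hB⟩ := exists_caseC hG
  obtain ⟨w, hw, hmod, hw1⟩ := exists_five_values hy (isConj_five hG hy)
  have hn := fun χ : IrrCharacter G => isIrr_apply_one χ.2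
  choose n hn0 hn1 using hn
  have hnz : ∀ χ : IrrCharacter G, (χ : G → ℂ) 1 = ((n χ : ℤ) : ℂ) := fun χ => by
    rw [hn1]; simp
  have hv0 : v 0 = triv G := Subtype.ext hB.one
  have m0 : n (v 0) = 1 := by exact_mod_cast (hn1 (v 0)).symm.trans (hB.degs 0)
  have m1 : n (v 1) = 10 := by exact_mod_cast (hn1 (v 1)).symm.trans (hB.degs 1)
  have m2 : n (v 2) = 10 := by exact_mod_cast (hn1 (v 2)).symm.trans (hB.degs 2)
  have m3 : n (v 3) = 10 := by exact_mod_cast (hn1 (v 3)).symm.trans (hB.degs 3)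
  have m4 : n (v 4) = 45 := by exact_mod_cast (hn1 (v 4)).symm.trans (hB.degs 4)
  have m5 : n (v 5) = 16 := by exact_mod_cast (hn1 (v 5)).symm.trans (hB.degs 5)
  have m6 : n (v 6) = 16 := by exact_mod_cast (hn1 (v 6)).symm.trans (hB.degs 6)
  have e1 := col_conj hw hw (IsConj.refl y)
  have e6 := col_conj hnz hnz (IsConj.refl 1)
  have hy1 : ¬ IsConj y 1 := by
    intro h
    have h1 : y = 1 := by
      obtain ⟨c, hc⟩ := isConj_iff.1 h
      have := congrArg (fun z => c⁻¹ * z * c) hc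
      simpa [mul_assoc] using this
    rw [h1, orderOf_one] at hy
    norm_num at hy
  have e7 := col_not_conj hw hnz hy1
  have hc1 : Nat.card (Subgroup.centralizer ({1} : Set G)) = 7920 := by
    rw [Subgroup.centralizer_eq_top_iff_subset.2 (by
      rw [Set.singleton_subset_iff]; exact Subgroup.one_mem _), Subgroup.card_top, hG.2]
  rw [card_centralizer_five hG hy] at e1
  have hle : ∀ ψ : IrrCharacter G, w ψ * w ψ ≤ 5 := by
    intro ψ
    have := Finset.single_le_sum (f := fun χ => w χ * w χ) (fun χ _ => mul_self_nonneg (w χ))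
      (Finset.mem_univ ψ)
    rw [e1] at this
    exact_mod_cast this
  have hz : ∀ ψ : IrrCharacter G, (5 : ℤ) ∣ n ψ → w ψ = 0 := by
    intro ψ h5
    have h1 := hmod ψ (n ψ) (hn1 ψ)
    have h2 : (5 : ℤ) ∣ w ψ := by omega
    obtain ⟨q, hq⟩ := h2
    have h3 := hle ψ
    rw [hq] at h3 ⊢
    have : q = 0 := by
      by_contra hq0
      have : 0 < q * q := mul_self_pos.2 hq0
      linarith only [h3, this]
    rw [this]; norm_num
  have h16 : ∀ ψ : IrrCharacter G, n ψ = 16 → w ψ = 1 := by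
    intro ψ h5
    have h1 := hmod ψ (n ψ) (hn1 ψ)
    rw [h5] at h1
    have h3 := hle ψ
    have h4 := abs_le_two h3
    push_cast at h1
    omega
  have w1 := hz (v 1) (by rw [m1]; norm_num)
  have w2 := hz (v 2) (by rw [m2]; norm_num)
  have w3 := hz (v 3) (by rw [m3]; norm_num)
  have w4 := hz (v 4) (by rw [m4]; norm_num)
  have w5 := h16 (v 5) m5
  have w6 := h16 (v 6) m6
  rw [sum_split hB.inj, Fin.sum_univ_seven] at e1 e6 e7
  rw [hv0, hw1, w1, w2, w3, w4, w5, w6] at e1
  rw [m0, m1, m2, m3, m4, m5, m6, hc1] at e6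
  rw [m0, m1, m2, m3, m4, m5, m6, hv0, hw1, w1, w2, w3, w4, w5, w6] at e7
  have g1 : ∑ χ ∈ others v, w χ * w χ = 2 := by push_cast at e1; linarith only [e1]
  have g6 : ∑ χ ∈ others v, (n χ : ℤ) * n χ = 5082 := by push_cast at e6; linarith only [e6]
  have g7 : ∑ χ ∈ others v, w χ * n χ = -33 := by push_cast at e7; linarith only [e7]
  -- data on the others
  have hoth : ∀ χ ∈ others v, ∃ k : ℕ, n χ = 11 * k ∧ 0 < k ∧ k ≤ 6 ∧ -1 ≤ w χ ∧ w χ ≤ 1 ∧
      (5 : ℤ) ∣ n χ - w χ := by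
    intro χ hR
    obtain ⟨-, k, hk⟩ := hB.rest χ (mem_others.1 hR)
    have hk' : n χ = 11 * k := by
      rw [hn1] at hk
      exact_mod_cast hk
    have hk0 : 0 < k := by
      rcases Nat.eq_zero_or_pos k with h | h
      · have := hn0 χ
        omega
      · exact h
    have b1 : w χ * w χ ≤ 2 := by
      rw [← g1]
      exact Finset.single_le_sum (f := fun χ => w χ * w χ) (fun χ _ => mul_self_nonneg (w χ)) hR
    have b6 : (n χ : ℤ) * n χ ≤ 5082 := by
      rw [← g6]
      exact Finset.single_le_sum (f := fun χ => (n χ : ℤ) * n χ)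
        (fun χ _ => mul_self_nonneg (n χ : ℤ)) hR
    have hk6 : k ≤ 6 := le_six (by rw [hk'] at b6; exact b6)
    obtain ⟨u2, u1⟩ := abs_le_one b1
    exact ⟨k, hk', hk0, hk6, u2, u1, hmod χ (n χ) (hn1 χ)⟩
  set T := (others v).filter fun χ => w χ ≠ 0 with hT
  have hTc : T.card = 2 := by
    have h1 : ∑ χ ∈ T, w χ * w χ = 2 := by
      rw [hT, Finset.sum_filter_of_ne]
      · exact g1
      · intro χ _ h h0
        apply h
        rw [h0, mul_zero]
    have h2 : ∑ χ ∈ T, w χ * w χ = ∑ χ ∈ T, (1 : ℤ) := by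
      refine Finset.sum_congr rfl fun χ hχ => ?_
      rw [hT, Finset.mem_filter] at hχ
      obtain ⟨k, -, -, -, h3, h4, -⟩ := hoth χ hχ.1
      have h5 := hχ.2
      have : w χ = 1 ∨ w χ = -1 := by omega
      rcases this with h | h <;> rw [h] <;> norm_num
    rw [h2, Finset.sum_const, nsmul_eq_mul, mul_one] at h1
    exact_mod_cast h1
  obtain ⟨a, b, hab, hTab⟩ := Finset.card_eq_two.1 hTc
  have ha : a ∈ T := by rw [hTab]; simp
  have hb : b ∈ T := by rw [hTab]; simp
  have hkey : w a * n a + w b * n b = -33 := by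
    have h1 : ∑ χ ∈ T, w χ * n χ = -33 := by
      rw [hT, Finset.sum_filter_of_ne]
      · exact g7
      · intro χ _ h h0
        apply h
        rw [h0, zero_mul]
    rwa [hTab, Finset.sum_pair hab] at h1
  have hval : ∀ χ ∈ T, (w χ = 1 ∧ (n χ = 11 ∨ n χ = 66)) ∨ (w χ = -1 ∧ n χ = 44) := by
    intro χ hχ
    rw [hT, Finset.mem_filter] at hχ
    obtain ⟨k, h1, h2, h3, h4, h5, h6⟩ := hoth χ hχ.1
    have h7 := hχ.2
    rw [h1] at h6 ⊢
    push_cast at h6
    have : w χ = 1 ∨ w χ = -1 := by (clear * - h4 h5 h7; omega)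
    rcases this with h | h
    · left
      rw [h] at h6
      refine ⟨h, ?_⟩
      (clear * - h3 h6; omega)
    · right
      rw [h] at h6
      refine ⟨h, ?_⟩
      (clear * - h3 h6; omega)
  have hn2 : (n a = 11 ∧ n b = 44) ∨ (n a = 44 ∧ n b = 11) := by
    rcases hval a ha with ⟨h1, h2 | h2⟩ | ⟨h1, h2⟩ <;> rcases hval b hb with ⟨h3, h4 | h4⟩ | ⟨h3, h4⟩ <;>
      rw [h1, h2, h3, h4] at hkey <;> norm_num at hkey
    · exact Or.inl ⟨h2, h4⟩
    · exact Or.inr ⟨h2, h4⟩
  have hrest : ∑ χ ∈ (others v) \ T, (n χ : ℤ) * n χ = 3025 := by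
    have h1 : T ⊆ others v := Finset.filter_subset _ _
    have h2 := Finset.sum_sdiff (f := fun χ => (n χ : ℤ) * n χ) h1
    rw [g6, hTab, Finset.sum_pair hab] at h2
    rw [hTab]
    rcases hn2 with ⟨h3, h4⟩ | ⟨h3, h4⟩ <;> rw [h3, h4] at h2 <;> push_cast at h2 <;> linarith only [h2]
  have h55 : ∀ χ ∈ (others v) \ T, n χ = 55 := by
    intro χ hχ
    rw [Finset.mem_sdiff] at hχ
    obtain ⟨k, h1, h2, h3, h4, h5, h6⟩ := hoth χ hχ.1
    have h7 : w χ = 0 := by
      by_contra h0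
      exact hχ.2 (by rw [hT, Finset.mem_filter]; exact ⟨hχ.1, h0⟩)
    rw [h7, h1] at h6
    push_cast at h6
    (clear * - h1 h2 h3 h6; omega)
  constructor
  · obtain ⟨χ, hχ⟩ : ((others v) \ T).Nonempty := by
      rw [Finset.nonempty_iff_ne_empty]
      intro h0
      rw [h0, Finset.sum_empty] at hrest
      norm_num at hrest
    refine ⟨χ, ?_⟩
    rw [hn1, h55 χ hχ]
    norm_num
  · intro χ d hd
    have hdn : d = n χ := by
      rw [hn1] at hd
      exact_mod_cast hd.symm
    rw [hdn]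
    by_cases hmem : ∃ i, v i = χ
    · obtain ⟨i, rfl⟩ := hmem
      fin_cases i
      · rw [show n (v ((fun i => i) ⟨0, by norm_num⟩)) = 1 from m0]; simp
      · rw [show n (v ((fun i => i) ⟨1, by norm_num⟩)) = 10 from m1]; simp
      · rw [show n (v ((fun i => i) ⟨2, by norm_num⟩)) = 10 from m2]; simp
      · rw [show n (v ((fun i => i) ⟨3, by norm_num⟩)) = 10 from m3]; simp
      · rw [show n (v ((fun i => i) ⟨4, by norm_num⟩)) = 45 from m4]; simp
      · rw [show n (v ((fun i => i) ⟨5, by norm_num⟩)) = 16 from m5]; simp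
      · rw [show n (v ((fun i => i) ⟨6, by norm_num⟩)) = 16 from m6]; simp
    · have hR : χ ∈ others v := mem_others.2 fun i hi => hmem ⟨i, hi⟩
      by_cases hχT : χ ∈ T
      · rw [hTab, Finset.mem_insert, Finset.mem_singleton] at hχT
        rcases hχT with rfl | rfl <;> rcases hn2 with ⟨h3, h4⟩ | ⟨h3, h4⟩ <;> simp [h3, h4]
      · rw [h55 χ (Finset.mem_sdiff.2 ⟨hR, hχT⟩)]
        simp

theorem degrees (hG : Cfsg.IsM11 G) {d : ℕ} (hd : d ∈ charDegrees G) :
    d ∈ [1, 10, 11, 16, 44, 45, 55] := by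
  obtain ⟨χ, hχ, h1⟩ := H424.DegTools.mem_charDegrees.1 hd
  exact (key hG).2 ⟨χ, hχ⟩ d h1

theorem mem_55 (hG : Cfsg.IsM11 G) : 55 ∈ charDegrees G := by
  obtain ⟨χ, h⟩ := (key hG).1
  exact H424.DegTools.mem_charDegrees.2 ⟨χ, χ.2, by rw [h]; norm_num⟩

theorem not_dvd (hG : Cfsg.IsM11 G) {d : ℕ} (hd : d ∈ charDegrees G) : ¬ 33 ∣ d := by
  have h := degrees hG hd
  simp only [List.mem_cons, List.not_mem_nil, or_false] at h
  omega

end Cfsg.Agent.H417.DegMEleven
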