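import Cfsg.Agent.S1664
import Cfsg.Agent.M23Order.TwentyThree
import Cfsg.Agent.H424.DegTools
import Cfsg.Agent.Prune
set_option linter.all false
prune_inst 0x7f00000000000000000000000000000000000000000000000000000000000000000000000000000000000000000000000000000000000000000000000000000000000000000000000000000000000000003fffffffffffffffffffffffffffbeffbdffffffff
open scoped Cfsg.Agent.FastGrp

/-!
# Degrees of irreducible characters of the Mathieu group of degree 23 (helper417)

`mem_2024` : 2024 is a degree;  `not_dvd` : no degree is divisible by 161.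
-/

set_option autoImplicit false

namespace Cfsg.Agent.H417.DegMTwentyThree

open Cfsg Subgroup
open Cfsg.Agent.M23 Cfsg.Agent.M23.ElevenCommon
open Cfsg.Agent.M23Order.Base
open Cfsg.Agent.M23Order.Setup
open Cfsg.Agent.M23Order.ColumnEleven
open Cfsg.Agent.M23Order.TwentyThree

universe u
variable {G : Type u} [Group G] [Finite G]

theorem exists_elev' (hG : Cfsg.IsM23 G) : ∃ (_ : IsSimpleGroup G) (H : Hyp G),
    ∃ z v a b c d g h b₁ c₁, Elev H z v a b c d g h b₁ c₁ := by
  have hs : IsSimpleGroup G := hG.1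
  have hcard : Nat.card G = 10200960 := hG.2
  have hp11 : Fact (Nat.Prime 11) := ⟨by norm_num⟩
  have hp23 : Fact (Nat.Prime 23) := ⟨by norm_num⟩
  obtain ⟨h1, h2⟩ := S1664.eleven hcard default
  obtain ⟨H⟩ := M23Order.Endgame.exists_hyp hcard default (Sylow23.centralizer_eq hcard default)
    (Sylow23.relIndex_eq hcard default) default h1 h2
  exact ⟨hs, H, exists_elev H⟩

theorem mem_2024 (hG : Cfsg.IsM23 G) : 2024 ∈ charDegrees G := by
  obtain ⟨hs, H, z, v, a, b, c, d, g, h, b₁, c₁, K⟩ := exists_elev' hG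
  exact ⟨h, K.dgh⟩

theorem arith : ∀ d ∈ A, 161 ∣ d → d = 1771 ∨
    (d % 11 ≠ 0 ∧ d ≠ 1 ∧ d ≠ 230 ∧ d ≠ 45 ∧ d ≠ 1035 ∧ d ≠ 896) := by
  decide

theorem not_1771 [IsSimpleGroup G] {H : Hyp G} {z : G} {v : IrrCharacter G → ℤ}
    {a b c d g h b₁ c₁ : IrrCharacter G} (K : Elev H z v a b c d g h b₁ c₁)
    (χ : IrrCharacter G) : dg χ ≠ 1771 := by
  classical
  intro hχ
  obtain ⟨x₁, x₂, x₃, x₄, x₅, -, -, -, -, hx, -, -⟩ := exists_block K
  have hne : ∀ {χ ψ : IrrCharacter G}, dg χ ≠ dg ψ → χ ≠ ψ := fun h h' => h (by rw [h'])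
  have h1 := sum_dg_sq_le ({a, d, h, b₁, c₁, x₄, χ} : Finset (IrrCharacter G))
  have da := K.dga
  have dd := K.dgd
  have dh := K.dgh
  have db₁ := K.dgb₁
  have dc₁ := K.dgc₁
  rw [Finset.sum_insert, Finset.sum_insert, Finset.sum_insert, Finset.sum_insert,
    Finset.sum_insert, Finset.sum_insert, Finset.sum_singleton, H.hcard, da, dd, dh, db₁, dc₁, hx,
    hχ] at h1
  · norm_num at h1
  all_goals
    simp only [Finset.mem_insert, Finset.mem_singleton, not_or]
    first
    | exact hne (by omega)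
    | exact ⟨K.b₁_ne, hne (by omega), hne (by omega)⟩
    | exact ⟨hne (by omega), hne (by omega)⟩
    | exact ⟨hne (by omega), hne (by omega), hne (by omega), hne (by omega)⟩
    | exact ⟨hne (by omega), hne (by omega), hne (by omega), hne (by omega), hne (by omega)⟩
    | exact ⟨hne (by omega), hne (by omega), hne (by omega), hne (by omega), hne (by omega),
        hne (by omega)⟩

theorem not_dvd (hG : Cfsg.IsM23 G) {n : ℕ} (hn : n ∈ charDegrees G) : ¬ 161 ∣ n := by
  obtain ⟨hs, H, z, v, a, b, c, d, g, h, b₁, c₁, K⟩ := exists_elev' hG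
  obtain ⟨χ, rfl⟩ := hn
  intro h161
  obtain ⟨k0, k1, k2, k3, k4, k5⟩ :=
    (arith (dg χ) (dg_mem_A H χ) h161).resolve_left (not_1771 K χ)
  by_cases hX : χ ∈ H.E.X
  · rcases (K.X χ).1 hX with rfl | rfl
    · exact k5 K.dgb₁
    · exact k5 K.dgc₁
  by_cases hN : χ ∈ H.E.NE
  · by_cases h1 : χ = H.D.one
    · rw [h1] at k1
      exact k1 (dg_one H)
    · have := (K.mem χ).2 ⟨hN, h1⟩
      simp only [List.mem_cons, List.not_mem_nil, or_false] at this
      rcases this with rfl | rfl | rfl | rfl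
      · exact k2 K.dga
      · exact k3 K.dgb
      · exact k3 K.dgc
      · exact k4 K.dgd
  · exact k0 (mod11_out H hN hX)

end Cfsg.Agent.H417.DegMTwentyThree
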