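import Cfsg.Agent.M22.KillACD
import Cfsg.Agent.M22.Sylow11
import Cfsg.Agent.M22.SevenSixFour_mg
import Cfsg.Agent.H424.DegTools
import Cfsg.Agent.Prune
set_option linter.all false
prune_inst 0x7f00000000000000000000000000000000000000000000000000000000000000000000000000000000000000000000000000000000000000000000000000000000000000000000000000000000000000003fffffffffffffffffffffffffffbeffbdffffffff

/-!
# The degrees of the irreducible characters of the Mathieu group of degree 22 (helper417)

`exists_enum` : a simple group of order 443520 has exactly twelve irreducible characters, of the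
degrees `1, 21, 45, 45, 55, 99, 154, 210, 231, 280, 280, 385`.
-/

set_option autoImplicit false

namespace Cfsg.Agent.H417.DegMTwentyTwo

open Cfsg Subgroup

universe u
variable {G : Type u} [Group G] [Finite G]

theorem exists_enum (hG : Cfsg.IsM22 G) : ∃ f : Fin 12 ≃ IrrCharacter G, ∀ i : Fin 12,
    charDegree (f i : G → ℂ) = M22.DegreesEnd.LB.getD i 0 := by
  obtain ⟨hs, hcard⟩ := hG
  have f11 : Fact (Nat.Prime 11) := ⟨by norm_num⟩
  have f7 : Fact (Nat.Prime 7) := ⟨by norm_num⟩
  have f5 : Fact (Nat.Prime 5) := ⟨by norm_num⟩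
  have h11 : ∀ Q : Sylow 11 G, Subgroup.centralizer (Q : Set G) = (Q : Subgroup G) :=
    fun Q => (Cfsg.Agent.M22.Sylow11.sylow_eleven hcard Q).1
  have h7 : ∀ P : Sylow 7 G, Subgroup.centralizer (P : Set G) = (P : Subgroup G) ∧
      (Subgroup.centralizer (P : Set G)).relIndex (Subgroup.normalizer (P : Set G)) = 3 :=
    fun P => Cfsg.Agent.M22.Sylow7Core.sylow_seven_core hcard h11 P
      (fun _ hK h8 => Cfsg.Agent.M22.SevenThreeEight.false_three_eight hcard h11 P hK h8)
      (fun _ hK h4 => Cfsg.Agent.M22.SevenSixFour.false_six_four hcard h11 P hK h4)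
  obtain ⟨P11⟩ : Nonempty (Sylow 11 G) := inferInstance
  obtain ⟨P7⟩ : Nonempty (Sylow 7 G) := inferInstance
  obtain ⟨P5⟩ : Nonempty (Sylow 5 G) := inferInstance
  have h5 := Cfsg.Agent.M22.SylowFive.sylow_five hcard P11 P7 (h11 P11) (h7 P7).1
      (Cfsg.Agent.M22.Sylow11.sylow_eleven hcard P11).2 (h7 P7).2 P5
  exact M22.KillACD.exists_enum_B hcard P11 P7 P5 (h11 P11) (h7 P7).1 h5.1
    (Cfsg.Agent.M22.Sylow11.sylow_eleven hcard P11).2 (h7 P7).2 h5.2

theorem mem_55 (hG : Cfsg.IsM22 G) : 55 ∈ charDegrees G := by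
  obtain ⟨f, hf⟩ := exists_enum hG
  exact ⟨f 4, hf 4⟩

theorem mem_99 (hG : Cfsg.IsM22 G) : 99 ∈ charDegrees G := by
  obtain ⟨f, hf⟩ := exists_enum hG
  exact ⟨f 5, hf 5⟩

end Cfsg.Agent.H417.DegMTwentyTwo
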