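import Cfsg.Agent.H417.QSTools
import Cfsg.Agent.H417.DegMEleven
import Cfsg.Agent.H417.DegMTwelve
import Cfsg.Agent.UGT.End.MEleven
import Cfsg.Agent.CpAutTThree.MTwelve
import Cfsg.Agent.S2034
import Cfsg.Agent.S0228
import Cfsg.Agent.FastGrp
import Cfsg.Agent.Prune
set_option linter.all false
prune_inst 0x7f00000000000000000000000000000000000000000000000000000000000000000000000000000000000000000000000000000000000000000000000000000000000000000000000000000000000000003fffffffffffffffffffffffffffbeffbdffffffff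
open scoped Cfsg.Agent.FastGrp

/-!
# The Mathieu group of degree 12 by order and character degree graph (helper417)
-/

set_option autoImplicit false

namespace Cfsg.Agent.H417.RecogMTwelve

open Subgroup Cfsg Cfsg.Agent.OrdDiv
open Cfsg.Agent.H424.DegTools
open Cfsg.Agent.H417.DegQuasi Cfsg.Agent.H417.QSTools

universe u v

/-- A normal subgroup with trivial centre all of whose automorphisms are inner is a direct factor. -/
theorem prodEquiv {G : Type u} [Group G] (L : Subgroup G) [L.Normal] (hZ : center L = ⊥)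
    (hinn : ∀ φ : L ≃* L, ∃ g : L, φ = MulAut.conj g) :
    Nonempty (L × centralizer (L : Set G) ≃* G) := by
  have hcomm : ∀ (m : L) (n : centralizer (L : Set G)), Commute (L.subtype m)
      ((centralizer (L : Set G)).subtype n) := fun m n => mem_centralizer_iff.1 n.2 m m.2
  let f := MonoidHom.noncommCoprod L.subtype (centralizer (L : Set G)).subtype hcomm
  refine ⟨MulEquiv.ofBijective f ⟨?_, ?_⟩⟩
  · rw [injective_iff_map_eq_one]
    rintro ⟨a, b⟩ hab
    have h1 : (a : G) * (b : G) = 1 := hab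
    have h2 : a ∈ center L := by
      rw [mem_center_iff]
      intro c
      apply Subtype.ext
      have h3 := mem_centralizer_iff.1 b.2 c c.2
      have h4 : (a : G) = (b : G)⁻¹ := eq_inv_of_mul_eq_one_left h1
      show (c : G) * a = a * c
      rw [h4]
      have h5 : (b : G)⁻¹ * (c * b) = (b : G)⁻¹ * (b * c) := by rw [h3]
      rw [inv_mul_cancel_left] at h5
      calc (c : G) * (b : G)⁻¹ = ((b : G)⁻¹ * (c * b)) * (b : G)⁻¹ := by rw [h5]
        _ = (b : G)⁻¹ * c := by group
    rw [hZ, mem_bot] at h2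
    subst h2
    have h3 : (b : G) = 1 := by simpa using h1
    exact Prod.ext rfl (Subtype.ext h3)
  · intro g
    obtain ⟨l, hl⟩ := hinn (MulAut.conjNormal g)
    have h1 : (l : G)⁻¹ * g ∈ centralizer (L : Set G) := by
      rw [mem_centralizer_iff]
      intro h hh
      have h2 := congrArg (fun φ : L ≃* L => ((φ ⟨h, hh⟩ : L) : G)) hl
      simp only [MulAut.conjNormal_apply, MulAut.conj_apply, Subgroup.coe_mul, Subgroup.coe_inv] at h2
      have h3 : g * h = l * h * (l : G)⁻¹ * g := by
        rw [← h2]; group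
      have h4 : h * ((l : G)⁻¹ * g) = (l : G)⁻¹ * (l * h * (l : G)⁻¹ * g) := by group
      rw [h4, ← h3]
      group
    refine ⟨(l, ⟨(l : G)⁻¹ * g, h1⟩), ?_⟩
    show (l : G) * ((l : G)⁻¹ * g) = g
    group

theorem mul_of_prod {G : Type u} {H : Type v} [Group G] [Group H] [Finite G] [Finite H] {d : ℕ}
    (h : d ∈ charDegrees (G × H)) : ∃ a ∈ charDegrees G, ∃ b ∈ charDegrees H, d = a * b := by
  obtain ⟨χ, hχ, h1⟩ := mem_charDegrees.1 h
  obtain ⟨φ, ψ, hφ, hψ, rfl⟩ := (S0188.result χ).1 hχ
  obtain ⟨a, -, ha⟩ := Characters.Core.isIrr_apply_one hφ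
  obtain ⟨b, -, hb⟩ := Characters.Core.isIrr_apply_one hψ
  refine ⟨a, mem_charDegrees.2 ⟨φ, hφ, ha⟩, b, mem_charDegrees.2 ⟨ψ, hψ, hb⟩, ?_⟩
  have h2 : φ 1 * ψ 1 = (d : ℂ) := h1
  rw [ha, hb] at h2
  exact_mod_cast h2.symm

/-- A group of order 12 with a character of degree 3. -/
theorem alt_four {C : Type u} [Group C] [Finite C] (hC : Nat.card C = 12) (h3 : 3 ∈ charDegrees C) :
    Nonempty (C ≃* alternatingGroup (Fin 4)) := by
  refine S0228.result hC fun z hz hzc => ?_
  have h1 := sq_le h3 (zpowers z) (by rwa [zpowers_le])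
  have h2 := (zpowers z).card_mul_index
  rw [Nat.card_zpowers, hz, hC] at h2
  omega

variable {G : Type u} [Group G] [Finite G]

/-- Adjacency in the degree graph from a degree. -/
theorem exists_of_adj {M : Type v} [Group M] (hΔ : degreeGraph G = degreeGraph M) {p q d : ℕ}
    (hp : p.Prime) (hq : q.Prime) (hpq : p ≠ q) (hd : d ∈ charDegrees M) (h : p * q ∣ d) :
    ∃ d ∈ charDegrees G, p * q ∣ d := by
  have h1 : (degreeGraph M).Adj p q := adj_iff.2 ⟨hpq, hp, hq, d, hd, h⟩
  rw [← hΔ] at h1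
  exact (adj_iff.1 h1).2.2.2

theorem main (T : OrderTable.{u}) (hK : ∀ (K : Type u) [Group K] [Finite K] [IsSimpleGroup K],
    IsKnownSimple' K) (hcard : Nat.card G = Nat.card Spor.M12)
    (hΔ : degreeGraph G = degreeGraph Spor.M12) :
    Nonempty (G ≃* ↥Cfsg.Spor.M12) ∨ Nonempty (G ≃* alternatingGroup (Fin 4) × ↥Cfsg.Spor.M11) := by
  have hM' : IsM12 Spor.M12 := ⟨CpAutTThree.MTwelve.simple, CpAutTThree.MTwelve.card⟩
  have hfin : Finite Spor.M12 := CpAutTThree.MTwelve.finite
  have hN : Nat.card G = 95040 := by rw [hcard, hM'.2]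
  obtain ⟨⟨n, hn, hn'⟩, m, hm, hm'⟩ := DegMTwelve.exists_both hM'
  obtain ⟨d, hd, hdd⟩ := exists_of_adj hΔ (p := 5) (q := 11) (by norm_num) (by norm_num) (by norm_num)
    hn hn'
  obtain ⟨d', hd', hdd'⟩ := exists_of_adj hΔ (p := 3) (q := 11) (by norm_num) (by norm_num) (by norm_num)
    hm hm'
  obtain ⟨L, hL, g, hg, hr, ho⟩ := exists_cand T hK (p := 11) [(2,6),(3,3),(5,1),(11,1)] hN
    (by decide +kernel) (by decide +kernel) (by norm_num) (by norm_num) hd
    ((dvd_mul_left 11 5).trans hdd)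
  have h1 : (cands [(2,6),(3,3),(5,1),(11,1)] 95040).filter (fun g => decide (11 ∣ ordN g)) =
      [.psl 2 11, .m11, .m12] := by decide +kernel
  rw [h1, List.mem_cons, List.mem_cons, List.mem_singleton] at hg
  rcases hg with rfl | rfl | rfl
  · exact (QS.kill hL hN (k := 660) (by rw [ho]; decide +kernel) hd hdd (by norm_num)
      (by norm_num)).elim
  · right
    have hk : Nat.card (L ⧸ center L) = 7920 := by rw [ho]; decide +kernel
    have hr' : Spor.IsoM11 (L ⧸ center L) := hr
    have hZ := center_eq_bot_of_multiplier S2034.result hL.perf hr'.some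
    obtain ⟨e⟩ := equiv_of_multiplier S2034.result hL.perf hr'.some
    have hLM : IsM11 L := UGT.End.MEleven.isM11 ⟨e⟩
    have := hL.normal
    obtain ⟨f⟩ := prodEquiv L hZ (SectRankFour.AutM11.exists_conj hLM)
    have hC : Nat.card (centralizer (L : Set G)) = 12 := by
      have h2 := Nat.card_congr f.toEquiv
      rw [Nat.card_prod, hLM.2, hN] at h2
      omega
    rw [charDegrees_congr f.symm] at hd'
    obtain ⟨a, ha, b, hb, rfl⟩ := mul_of_prod hd'
    have h3 : 3 ∣ b := by
      have h4 : 3 ∣ a * b := (dvd_mul_right 3 11).trans hdd'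
      rcases (Nat.Prime.dvd_mul (by norm_num)).1 h4 with h5 | h5
      · exfalso
        have h6 : 11 ∣ a * b := (dvd_mul_left 11 3).trans hdd'
        rcases (Nat.Prime.dvd_mul (by norm_num)).1 h6 with h7 | h7
        · refine DegMEleven.not_dvd hLM ha ?_
          exact Nat.Coprime.mul_dvd_of_dvd_of_dvd (m := 3) (n := 11) (by norm_num) h5 h7
        · have h8 := h7.trans (dvd_card hb)
          rw [hC] at h8
          norm_num at h8
      · exact h5
    have h4 : b = 3 := by
      have h5 := sq_le hb ⊥ bot_le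
      rw [index_bot, hC] at h5
      have h6 := pos_of_mem hb
      obtain ⟨c, rfl⟩ := h3
      have : c = 1 := by nlinarith
      omega
    rw [h4] at hb
    obtain ⟨e2⟩ := alt_four hC hb
    exact ⟨f.symm.trans ((MulEquiv.prodCongr e e2).trans MulEquiv.prodComm)⟩
  · left
    obtain ⟨e⟩ := hL.mulEquiv (by rw [ho, hN]; decide +kernel)
    obtain ⟨e2⟩ : Spor.IsoM12 (L ⧸ center L) := hr
    exact ⟨e.trans e2⟩

end Cfsg.Agent.H417.RecogMTwelve
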