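import Cfsg.Agent.H995.CopEngine
import Cfsg.Agent.H961.LinePSU3
import Cfsg.Agent.S0169
import Cfsg.Agent.H341.ThreeList_m3
import Cfsg.Agent.H417.CommPQ
import Cfsg.Agent.Prune
set_option linter.all false

-- part: H961/Recog
section
set_option linter.all false
open scoped Cfsg.Agent.FastGrp

/-!
# Recognition by order and a degree prime dividing the order once (helper961)
-/

set_option autoImplicit false

namespace Cfsg.Agent.H961.Recog

open Cfsg Cfsg.Agent.OrdDiv Cfsg.Agent.H961.PrimeSection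

universe u v

theorem hasSec_of_mem {p : ℕ} [hp : Fact p.Prime] (G : Type u) [Group G] [Finite G]
    (hp2 : ¬ p ^ 2 ∣ Nat.card G) (hc : Cond p (Nat.card G)) (h : p ∈ degreePrimes G) :
    HasSec p G := by
  refine (main G hp2 hc).resolve_left fun hn => ?_
  obtain ⟨-, d, ⟨χ, hχ⟩, hd⟩ := h
  obtain ⟨P⟩ : Nonempty (Sylow p G) := inferInstance
  have hP := hn P
  obtain ⟨n, ρ, hρ, hρχ⟩ := χ.2
  have hcard : Nat.card (P : Subgroup G) ∣ p := by
    rw [Sylow.card_eq_multiplicity]
    have h1 : (Nat.card G).factorization p ≤ 1 := by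
      by_contra h5
      rw [not_le] at h5
      exact hp2 ((hp.out.pow_dvd_iff_le_factorization Nat.card_pos.ne').2 h5)
    have h2 := pow_dvd_pow p h1
    rwa [pow_one] at h2
  have hab : ∀ a ∈ (P : Subgroup G), ∀ b ∈ (P : Subgroup G), a * b = b * a := by
    intro a ha b hb
    have h1 : IsCyclic (P : Subgroup G) := by
      rcases (Nat.dvd_prime hp.out).1 hcard with h | h
      · have : Subsingleton (P : Subgroup G) := (Nat.card_eq_one_iff_unique.1 h).1
        exact isCyclic_of_subsingleton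
      · exact isCyclic_of_prime_card h
    have h2 : (⟨a, ha⟩ : (P : Subgroup G)) * ⟨b, hb⟩ = ⟨b, hb⟩ * ⟨a, ha⟩ :=
      h1.commGroup.mul_comm _ _
    exact congrArg Subtype.val h2
  have h1 := S0169.result ρ (P : Subgroup G) hab
  rw [Module.finrank_fin_fun] at h1
  have h2 : charDegree (χ : G → ℂ) = n := by
    apply LineChar.charDegree_eq
    rw [← hρχ, Representation.char_one, Module.finrank_fin_fun]
  rw [← hχ, h2] at hd
  exact Sylow.not_dvd_index P (hd.trans h1)

/-- the checker for `Cond` -/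
def condB (p : ℕ) (l : List (ℕ × ℕ)) : Bool :=
  l.all fun x => x.1 == p || (List.range x.2).all fun i => (x.1 ^ (i + 1) - 1) % p != 0

theorem cond_of {p N : ℕ} {l : List (ℕ × ℕ)} (hv : valid l N = true) (h : condB p l = true) :
    Cond p N := by
  intro r i hr hrp hi hd hpd
  obtain ⟨k, hk, hik⟩ := exists_pair hv hr hi hd
  have h1 := (List.all_eq_true.1 h) _ hk
  rw [Bool.or_eq_true] at h1
  rcases h1 with h1 | h1
  · exact hrp (by simpa using h1)
  · have h2 := (List.all_eq_true.1 h1) (i - 1) (List.mem_range.2 (by simp only; omega))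
    simp only [Nat.sub_add_cancel hi] at h2
    have h3 : (r ^ i - 1) % p = 0 := Nat.mod_eq_zero_of_dvd hpd
    rw [h3] at h2
    simp at h2

theorem main (T : OrderTable.{u}) (hK : ∀ (K : Type u) [Group K] [Finite K] [IsSimpleGroup K],
    IsKnownSimple' K) {G : Type u} [Group G] [Finite G] {S : Type v} [Group S]
    (g : Grp) (p N : ℕ) (l : List (ℕ × ℕ)) (hv : valid l N = true)
    (hcond : condB p l = true) (hp : p.Prime) (hp2 : ¬ p ^ 2 ∣ N)
    (hcands : (cands l N).filter (fun g => decide (p ∣ ordN g)) = [g]) (hg : ordN g = N)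
    (hG : Nat.card G = N) (hGp : p ∈ degreePrimes G)
    (huniq : ∀ K : Type u, [Group K] → Real g K → Nonempty (K ≃* S)) : Nonempty (G ≃* S) := by
  have := Fact.mk hp
  obtain ⟨A, K, _, f, hf, hs, hna, hpK⟩ := hasSec_of_mem G (by rw [hG]; exact hp2)
    (by rw [hG]; exact cond_of hv hcond) hGp
  have : Finite K := Finite.of_surjective f hf
  have hKA : Nat.card K ∣ Nat.card A := Subgroup.card_dvd_of_surjective f hf
  have hAG : Nat.card A ∣ Nat.card G := Subgroup.card_subgroup_dvd_card A
  obtain ⟨g', hg', hr, ho⟩ := exists_good T (hK K) hna hv (by rw [← hG]; exact hKA.trans hAG)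
  have h1 : g' ∈ (cands l N).filter (fun g => decide (p ∣ ordN g)) := by
    rw [List.mem_filter]
    exact ⟨hg', by rw [← ho]; simpa using hpK⟩
  rw [hcands, List.mem_singleton] at h1
  rw [h1] at hr ho
  rw [hg] at ho
  have hA : Nat.card A = Nat.card G := by
    apply Nat.dvd_antisymm hAG
    rw [hG, ← ho]
    exact hKA
  have hAt : A = ⊤ := Subgroup.eq_top_of_card_eq A hA
  have hb : Function.Bijective f := by
    have : Fintype A := Fintype.ofFinite A
    have : Fintype K := Fintype.ofFinite K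
    rw [Fintype.bijective_iff_surjective_and_card]
    refine ⟨hf, ?_⟩
    rw [← Nat.card_eq_fintype_card, ← Nat.card_eq_fintype_card, hA, hG, ho]
  obtain ⟨e⟩ := huniq K hr
  subst hAt
  exact ⟨Subgroup.topEquiv.symm.trans ((MulEquiv.ofBijective f hb).trans e)⟩

end Cfsg.Agent.H961.Recog
end

-- part: H417/QSTools
section
set_option linter.all false
open scoped Cfsg.Agent.FastGrp

/-!
# The order engine for the quasisimple normal subgroup of `H417.DegQuasi` (helper417)

* `exists_cand` : from a degree divisible by `p`: a normal quasisimple `L` with `L / Z(L)` in the list;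
* `QS.kill` : no degree divisible by `m` when `m ^ 2 > |L / Z(L)|`, `m` prime to `|G| / |L / Z(L)|`;
* `QS.exists_degree_equiv` : degrees of `X ≅ L / Z(L)` when `X` has trivial multiplier.
-/

set_option autoImplicit false

namespace Cfsg.Agent.H417.QSTools

open Subgroup Cfsg Cfsg.Agent.OrdDiv
open Cfsg.Agent.H424.DegTools
open Cfsg.Agent.H417.Quasi (Triv)
open Cfsg.Agent.H417.DegQuasi
open Cfsg.Agent.H961.PrimeSection Cfsg.Agent.H961.Recog

universe u v

theorem triv_of {p N : ℕ} (hp : p.Prime) {l : List (ℕ × ℕ)} (hv : valid l N = true)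
    (h : condB p l = true) : Triv p N := by
  intro r hr hrp j hj hd h1
  refine cond_of hv h r j hr hrp hj hd ?_
  have h2 : (r ^ j) % p = 1 % p := by rw [h1, Nat.mod_eq_of_lt hp.one_lt]
  exact (Nat.modEq_iff_dvd' (Nat.one_le_pow _ _ hr.pos)).1 h2.symm

variable {G : Type u} [Group G]

/-- the engine -/
theorem exists_cand [Finite G] (T : OrderTable.{u}) (hK : ∀ (K : Type u) [Group K] [Finite K] [IsSimpleGroup K],
    IsKnownSimple' K) {p N : ℕ} (l : List (ℕ × ℕ)) (hN : Nat.card G = N) (hv : valid l N = true)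
    (hcond : condB p l = true) (hp : p.Prime) (hp2 : ¬ p * p ∣ N) {d : ℕ}
    (hd : d ∈ charDegrees G) (hpd : p ∣ d) :
    ∃ L : Subgroup G, QS G p L ∧ ∃ g ∈ (cands l N).filter (fun g => decide (p ∣ ordN g)),
      Real g (L ⧸ center L) ∧ Nat.card (L ⧸ center L) = ordN g := by
  have := Fact.mk hp
  obtain ⟨L, hL⟩ := exists_qs (p := p) (by rw [hN]; exact hp2) (by rw [hN]; exact triv_of hp hv hcond)
    hd hpd
  refine ⟨L, hL, ?_⟩
  have := hL.simple
  have h1 := hL.card_mul
  obtain ⟨g, hg, hr, ho⟩ := exists_good T (hK (L ⧸ center L)) hL.na hv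
    (by rw [← hN, ← h1, mul_assoc]; exact dvd_mul_right _ _)
  refine ⟨g, ?_, hr, ho⟩
  rw [List.mem_filter]
  exact ⟨hg, by rw [← ho]; simpa using hL.dvd⟩

theorem QS.index_dvd [Finite G] {p : ℕ} {L : Subgroup G} (h : QS G p L) {N k : ℕ}
    (hN : Nat.card G = N) (hk : Nat.card (L ⧸ center L) = k) :
    Nat.card (center L) * L.index = N / k := by
  have h1 := h.card_mul
  have h2 : 0 < k := by rw [← hk]; exact Nat.card_pos
  rw [hN, hk, mul_assoc] at h1
  rw [← h1, Nat.mul_div_cancel_left _ h2]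

theorem QS.coprime_index [Finite G] {p : ℕ} {L : Subgroup G} (h : QS G p L) {N k m : ℕ}
    (hN : Nat.card G = N) (hk : Nat.card (L ⧸ center L) = k) (hc : m.Coprime (N / k)) :
    m.Coprime L.index :=
  Nat.Coprime.coprime_dvd_right (by rw [← QS.index_dvd h hN hk]; exact dvd_mul_left _ _) hc

theorem QS.kill [Finite G] {p : ℕ} {L : Subgroup G} (h : QS G p L) {N k m d : ℕ}
    (hN : Nat.card G = N) (hk : Nat.card (L ⧸ center L) = k) (hd : d ∈ charDegrees G)
    (hm : m ∣ d) (hc : m.Coprime (N / k)) (hlt : k < m ^ 2) : False := by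
  obtain ⟨c, hc1, hc2, -, hc3⟩ := h.exists_degree hd hm (QS.coprime_index h hN hk hc)
  rw [hk] at hc3
  have h1 := Nat.le_of_dvd (pos_of_mem hc1) hc2
  have h2 := Nat.pow_le_pow_left h1 2
  omega

theorem QS.exists_degree_equiv [Finite G] {p : ℕ} {L : Subgroup G} (h : QS G p L) {N k m d : ℕ}
    (hN : Nat.card G = N) (hk : Nat.card (L ⧸ center L) = k) (hd : d ∈ charDegrees G)
    (hm : m ∣ d) (hc : m.Coprime (N / k)) {X : Type} [Group X]
    (hX : HasCyclicSchurMultiplier X 1) (e : Nonempty (L ⧸ center L ≃* X)) :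
    ∃ c ∈ charDegrees X, m ∣ c := by
  obtain ⟨c, hc1, hc2, -, -⟩ := h.exists_degree hd hm (QS.coprime_index h hN hk hc)
  obtain ⟨e'⟩ := equiv_of_multiplier hX h.perf e.some
  rw [charDegrees_congr e'] at hc1
  exact ⟨c, hc1, hc2⟩

end Cfsg.Agent.H417.QSTools
end
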