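import Cfsg.Agent.S0422
import Cfsg.Agent.H424.DegTools
import Cfsg.Agent.H417.QSTools
import Cfsg.Agent.H417.DegMEleven
import Cfsg.Agent.H417.DegMTwentyTwo
import Cfsg.Agent.H417.DegMTwentyThree
import Cfsg.Agent.UGT.End.MEleven
import Cfsg.Agent.S0365
import Cfsg.Agent.S2034
import Cfsg.Agent.S2037
import Cfsg.Agent.Prune
set_option linter.all false

section
prune_inst 0x7f00000000000000000000000000000000000000000000000000000000000000000000000000000000000000000000000000000000000000000000000000000000000000000000000000000000000000003fffffffffffffffffffffffffffbeffbdffffffff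

-- part: H417/DegMTwentyFour
section
set_option linter.all false

/-!
# A degree of the Mathieu group of degree 24 (helper417)

`mem_1771` : 1771 is the degree of an irreducible character of a simple group of order 244823040.
-/

set_option autoImplicit false

namespace Cfsg.Agent.H417.DegMTwentyFour

open Cfsg Subgroup
open Cfsg.Agent Cfsg.Agent.Characters.Core Cfsg.Agent.M24Order

universe u
variable {G : Type u} [Group G] [Finite G]

theorem mem_1771 (hG : Cfsg.IsM24 G) : 1771 ∈ charDegrees G := by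
  have := hG.1
  obtain ⟨H⟩ := Final.exists_hyp hG.2
  have : Fact (Nat.Prime 5) := ⟨by norm_num⟩
  have : Fact (Nat.Prime 7) := ⟨by norm_num⟩
  obtain ⟨R⟩ : Nonempty (Sylow 5 G) := inferInstance
  obtain ⟨S⟩ : Nonempty (Sylow 7 G) := inferInstance
  obtain ⟨K, M, B, ε, a, b, c, d, h5, ⟨K', M', D, a', h7⟩ | ⟨K', M', B', ε', l', h7⟩⟩ :=
    SporadicA.M24.Convert.exists_blocks H R S
  · obtain ⟨t, v, Θ, Θ', L⟩ := ToLast.exists_last H h5 h7
    exact ⟨_, L.d1771⟩
  · exact (S0422.six_false (SporadicA.M24.Convert.conv H) h5 h7).elim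

end Cfsg.Agent.H417.DegMTwentyFour
end

-- part: H417/RecogMathieu
section
set_option linter.all false
open scoped Cfsg.Agent.FastGrp

/-!
# Mathieu groups by order and character degree graph (helper417)
-/

set_option autoImplicit false

namespace Cfsg.Agent.H417.RecogMathieu

open Subgroup Cfsg Cfsg.Agent.OrdDiv
open Cfsg.Agent.H424.DegTools
open Cfsg.Agent.H417.DegQuasi Cfsg.Agent.H417.QSTools

universe u v

theorem isM22 {X : Type*} [Group X] (h : Spor.IsoM22 X) : IsM22 X := by
  obtain ⟨e⟩ := h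
  have := SporadicA.MathieuRecog.simple_M22
  exact ⟨e.isSimpleGroup, by rw [Nat.card_congr e.toEquiv, SporadicA.MathieuRecog.card_M22]⟩

theorem isM23 {X : Type*} [Group X] (h : Spor.IsoM23 X) : IsM23 X := by
  obtain ⟨e⟩ := h
  have := S2037.simple
  exact ⟨e.isSimpleGroup, by rw [Nat.card_congr e.toEquiv, SporadicA.MathieuRecog.card_M23]⟩

theorem isM24 {X : Type*} [Group X] (h : Spor.IsoM24 X) : IsM24 X := by
  obtain ⟨e⟩ := h
  have := S0365.result
  exact ⟨e.isSimpleGroup, by rw [Nat.card_congr e.toEquiv, S0364.result]⟩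

variable {G : Type u} [Group G] [Finite G]

/-- Adjacency in the degree graph from a degree. -/
theorem exists_of_adj {M : Type v} [Group M] (hΔ : degreeGraph G = degreeGraph M) {p q d : ℕ}
    (hp : p.Prime) (hq : q.Prime) (hpq : p ≠ q) (hd : d ∈ charDegrees M) (h : p * q ∣ d) :
    ∃ d ∈ charDegrees G, p * q ∣ d := by
  have h1 : (degreeGraph M).Adj p q := adj_iff.2 ⟨hpq, hp, hq, d, hd, h⟩
  rw [← hΔ] at h1
  exact (adj_iff.1 h1).2.2.2

variable (T : OrderTable.{u}) (hK : ∀ (K : Type u) [Group K] [Finite K] [IsSimpleGroup K],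
    IsKnownSimple' K)

include T hK

theorem m11 {M : Type v} [Group M] [Finite M] (hM : Spor.IsoM11 M)
    (hcard : Nat.card G = Nat.card M) (hΔ : degreeGraph G = degreeGraph M) :
    Nonempty (G ≃* M) := by
  have hM' := UGT.End.MEleven.isM11 hM
  have hN : Nat.card G = 7920 := by rw [hcard, hM'.2]
  obtain ⟨d, hd, hdd⟩ := exists_of_adj hΔ (p := 5) (q := 11) (by norm_num) (by norm_num) (by norm_num)
    (DegMEleven.mem_55 hM') (by norm_num)
  obtain ⟨L, hL, g, hg, hr, ho⟩ := exists_cand T hK (p := 11) [(2,4),(3,2),(5,1),(11,1)] hN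
    (by decide +kernel) (by decide +kernel) (by norm_num) (by norm_num) hd
    ((dvd_mul_left 11 5).trans hdd)
  have h1 : (cands [(2,4),(3,2),(5,1),(11,1)] 7920).filter (fun g => decide (11 ∣ ordN g)) =
      [.psl 2 11, .m11] := by decide +kernel
  rw [h1, List.mem_cons, List.mem_singleton] at hg
  rcases hg with rfl | rfl
  · exact (QS.kill hL hN (k := 660) (by rw [ho]; decide +kernel) hd hdd (by norm_num)
      (by norm_num)).elim
  · obtain ⟨e⟩ := hL.mulEquiv (by rw [ho, hN]; decide +kernel)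
    obtain ⟨e1⟩ := hM
    obtain ⟨e2⟩ : Spor.IsoM11 (L ⧸ center L) := hr
    exact ⟨e.trans (e2.trans e1.symm)⟩

theorem m22 {M : Type v} [Group M] [Finite M] (hM : Spor.IsoM22 M)
    (hcard : Nat.card G = Nat.card M) (hΔ : degreeGraph G = degreeGraph M) :
    Nonempty (G ≃* M) := by
  have hM' := isM22 hM
  have hN : Nat.card G = 443520 := by rw [hcard, hM'.2]
  obtain ⟨d, hd, hdd⟩ := exists_of_adj hΔ (p := 5) (q := 11) (by norm_num) (by norm_num) (by norm_num)
    (DegMTwentyTwo.mem_55 hM') (by norm_num)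
  obtain ⟨d', hd', hdd'⟩ := exists_of_adj hΔ (p := 3) (q := 11) (by norm_num) (by norm_num) (by norm_num)
    (DegMTwentyTwo.mem_99 hM') (by norm_num)
  obtain ⟨L, hL, g, hg, hr, ho⟩ := exists_cand T hK (p := 11) [(2,7),(3,2),(5,1),(7,1),(11,1)] hN
    (by decide +kernel) (by decide +kernel) (by norm_num) (by norm_num) hd
    ((dvd_mul_left 11 5).trans hdd)
  have h1 : (cands [(2,7),(3,2),(5,1),(7,1),(11,1)] 443520).filter (fun g => decide (11 ∣ ordN g)) =
      [.psl 2 11, .m11, .m22] := by decide +kernel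
  rw [h1, List.mem_cons, List.mem_cons, List.mem_singleton] at hg
  rcases hg with rfl | rfl | rfl
  · exact (QS.kill hL hN (k := 660) (by rw [ho]; decide +kernel) hd hdd (by norm_num)
      (by norm_num)).elim
  · obtain ⟨c, hc, hc'⟩ := QS.exists_degree_equiv hL hN (k := 7920) (by rw [ho]; decide +kernel) hd' hdd'
      (by norm_num) S2034.result hr
    exact (DegMEleven.not_dvd (UGT.End.MEleven.isM11 ⟨MulEquiv.refl _⟩) hc hc').elim
  · obtain ⟨e⟩ := hL.mulEquiv (by rw [ho, hN]; decide +kernel)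
    obtain ⟨e1⟩ := hM
    obtain ⟨e2⟩ : Spor.IsoM22 (L ⧸ center L) := hr
    exact ⟨e.trans (e2.trans e1.symm)⟩

theorem m23 {M : Type v} [Group M] [Finite M] (hM : Spor.IsoM23 M)
    (hcard : Nat.card G = Nat.card M) (hΔ : degreeGraph G = degreeGraph M) :
    Nonempty (G ≃* M) := by
  have hM' := isM23 hM
  have hN : Nat.card G = 10200960 := by rw [hcard, hM'.2]
  obtain ⟨d, hd, hdd⟩ := exists_of_adj hΔ (p := 11) (q := 23) (by norm_num) (by norm_num) (by norm_num)
    (DegMTwentyThree.mem_2024 hM') (by norm_num)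
  obtain ⟨L, hL, g, hg, hr, ho⟩ := exists_cand T hK (p := 23) [(2,7),(3,2),(5,1),(7,1),(11,1),(23,1)] hN
    (by decide +kernel) (by decide +kernel) (by norm_num) (by norm_num) hd
    ((dvd_mul_left 23 11).trans hdd)
  have h1 : (cands [(2,7),(3,2),(5,1),(7,1),(11,1),(23,1)] 10200960).filter
      (fun g => decide (23 ∣ ordN g)) = [.psl 2 23, .m23] := by decide +kernel
  rw [h1, List.mem_cons, List.mem_singleton] at hg
  rcases hg with rfl | rfl
  · exact (QS.kill hL hN (k := 6072) (by rw [ho]; decide +kernel) hd hdd (by norm_num)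
      (by norm_num)).elim
  · obtain ⟨e⟩ := hL.mulEquiv (by rw [ho, hN]; decide +kernel)
    obtain ⟨e1⟩ := hM
    obtain ⟨e2⟩ : Spor.IsoM23 (L ⧸ center L) := hr
    exact ⟨e.trans (e2.trans e1.symm)⟩

theorem m24 {M : Type v} [Group M] [Finite M] (hM : Spor.IsoM24 M)
    (hcard : Nat.card G = Nat.card M) (hΔ : degreeGraph G = degreeGraph M) :
    Nonempty (G ≃* M) := by
  have hM' := isM24 hM
  have hN : Nat.card G = 244823040 := by rw [hcard, hM'.2]
  obtain ⟨d, hd, hdd⟩ := exists_of_adj hΔ (p := 11) (q := 23) (by norm_num) (by norm_num) (by norm_num)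
    (DegMTwentyFour.mem_1771 hM') (by norm_num)
  obtain ⟨d', hd', hdd'⟩ := exists_of_adj hΔ (p := 7) (q := 23) (by norm_num) (by norm_num) (by norm_num)
    (DegMTwentyFour.mem_1771 hM') (by norm_num)
  obtain ⟨L, hL, g, hg, hr, ho⟩ := exists_cand T hK (p := 23) [(2,10),(3,3),(5,1),(7,1),(11,1),(23,1)]
    hN (by decide +kernel) (by decide +kernel) (by norm_num) (by norm_num) hd
    ((dvd_mul_left 23 11).trans hdd)
  have h1 : (cands [(2,10),(3,3),(5,1),(7,1),(11,1),(23,1)] 244823040).filter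
      (fun g => decide (23 ∣ ordN g)) = [.psl 2 23, .m23, .m24] := by decide +kernel
  rw [h1, List.mem_cons, List.mem_cons, List.mem_singleton] at hg
  rcases hg with rfl | rfl | rfl
  · exact (QS.kill hL hN (k := 6072) (by rw [ho]; decide +kernel) hd hdd (by norm_num)
      (by norm_num)).elim
  · obtain ⟨c, hc, hc'⟩ := QS.exists_degree_equiv hL hN (k := 10200960) (by rw [ho]; decide +kernel)
      hd' hdd' (by norm_num) S2037.result hr
    exact (DegMTwentyThree.not_dvd (isM23 ⟨MulEquiv.refl _⟩) hc hc').elim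
  · obtain ⟨e⟩ := hL.mulEquiv (by rw [ho, hN]; decide +kernel)
    obtain ⟨e1⟩ := hM
    obtain ⟨e2⟩ : Spor.IsoM24 (L ⧸ center L) := hr
    exact ⟨e.trans (e2.trans e1.symm)⟩

theorem main {M : Type v} [Group M] [Finite M]
    (hM : Spor.IsoM11 M ∨ Spor.IsoM22 M ∨ Spor.IsoM23 M ∨ Spor.IsoM24 M)
    (hcard : Nat.card G = Nat.card M) (hΔ : degreeGraph G = degreeGraph M) :
    Nonempty (G ≃* M) := by
  rcases hM with hM | hM | hM | hM
  · exact m11 T hK hM hcard hΔ
  · exact m22 T hK hM hcard hΔ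
  · exact m23 T hK hM hcard hΔ
  · exact m24 T hK hM hcard hΔ

end Cfsg.Agent.H417.RecogMathieu
end
end
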