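import Cfsg.Agent.M23Order.Base
import Cfsg.Agent.Prune
set_option linter.all false
prune_inst 0x7f00000000000000000000000000000000000000000000000000000000000000000000000000000000000000000000000000000000000000000000000000000000000000000000000000000000000000003fffffffffffffffffffffffffffbeffbdffffffff
open scoped Cfsg.Agent.FastGrp

/-!
# Counting degrees modulo `p`, self-centralizing Sylow `p`-subgroups of order `p` (helper417)

* `exists_SC` : the data `SC p e t P` from the order of `G`: `e = |G| / p % p`;
* `mod_cases`, `card_ne_zero`, `card_one`, `card_exc` : the degrees modulo `p` and their numbers.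
-/

set_option autoImplicit false
set_option linter.unusedSectionVars false

namespace Cfsg.Agent.H417.BlockCount

open Cfsg Subgroup
open Cfsg.Agent.Characters.Core
open Cfsg.Agent.M23Order.Base

universe u

variable {G : Type u} [Group G] [Finite G]

/-- `SC` from the centralizers of the elements of order `p`. -/
theorem exists_SC (p : ℕ) [hpF : Fact p.Prime] (hp2 : p ≠ 2) (hd : p ∣ Nat.card G) (hdd : ¬ p ^ 2 ∣ Nat.card G)
    (hC : ∀ y : G, orderOf y = p → Nat.card (centralizer ({y} : Set G)) = p) {e t : ℕ}
    (he : Nat.card G / p % p = e) (ht : e * t = p - 1) :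
    ∃ P : Sylow p G, Nat.card P = p ∧ Nonempty (SC p e t P) := by
  have hp := hpF.out
  obtain ⟨P⟩ : Nonempty (Sylow p G) := inferInstance
  have hP : Nat.card (P : Subgroup G) = p := by
    have h1 : Nat.card P = p ^ (Nat.card G).factorization p := P.card_eq_multiplicity
    have h3 : (Nat.card G).factorization p = 1 := by
      apply le_antisymm
      · by_contra hlt
        apply hdd
        exact (hp.pow_dvd_iff_le_factorization Nat.card_pos.ne').2 (by omega)
      · exact (hp.dvd_iff_one_le_factorization Nat.card_pos.ne').1 hd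
    rw [h1, h3, pow_one]
  -- the centralizer of `P`
  have hcyc : IsCyclic (P : Subgroup G) := isCyclic_of_prime_card hP
  have hcomm : ∀ a ∈ (P : Subgroup G), ∀ b ∈ (P : Subgroup G), a * b = b * a := fun a ha b hb =>
    congrArg Subtype.val ((IsCyclic.isMulCommutative (α := (P : Subgroup G))).is_comm.comm ⟨a, ha⟩ ⟨b, hb⟩)
  obtain ⟨x, hx⟩ : ∃ x : (P : Subgroup G), x ≠ 1 := by
    have : Nontrivial (P : Subgroup G) := by
      rw [← Finite.one_lt_card_iff_nontrivial, hP]
      exact hp.one_lt
    exact exists_ne 1
  have hxo : orderOf (x : G) = p := by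
    have h1 : orderOf x ∣ p := (orderOf_dvd_natCard x).trans hP.dvd
    rcases (Nat.dvd_prime hp).1 h1 with h2 | h2
    · exact absurd (orderOf_eq_one_iff.1 h2) hx
    · rw [Subgroup.orderOf_coe]
      exact h2
  have hC1 : centralizer ((P : Subgroup G) : Set G) = (P : Subgroup G) := by
    have hle : (P : Subgroup G) ≤ centralizer ((P : Subgroup G) : Set G) := by
      intro a ha
      rw [mem_centralizer_iff]
      intro b hb
      exact hcomm b hb a ha
    refine (Subgroup.eq_of_le_of_card_ge hle ?_).symm
    have h1 : centralizer ((P : Subgroup G) : Set G) ≤ centralizer ({(x : G)} : Set G) :=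
      Subgroup.centralizer_le (by simp)
    exact (Subgroup.card_le_of_le h1).trans (by rw [hC _ hxo]; exact hP.ge)
  -- the index of `P` in its normalizer
  set N := normalizer ((P : Subgroup G) : Set G) with hN
  have hPN : (P : Subgroup G) ≤ N := le_normalizer
  set e' := (P : Subgroup G).relIndex N with he'
  have hcard : Nat.card N = p * e' := by
    have h1 : (P : Subgroup G).relIndex N * Nat.card (P : Subgroup G) = Nat.card N := by
      rw [relIndex, ← Nat.card_congr (subgroupOfEquivOfLe hPN).toEquiv]
      exact Subgroup.index_mul_card _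
    rw [← h1, hP, mul_comm]
  have hlt : e' < p := by
    have h1 : e' ∣ p - 1 := by
      -- `N / C` embeds in the automorphism group of `P`
      have h2 : (centralizer ((P : Subgroup G) : Set G)).relIndex N ∣ p - 1 := by
        let f : N →* MulAut (P : Subgroup G) := normalizerMonoidHom (P : Subgroup G)
        have hk : f.ker = (centralizer ((P : Subgroup G) : Set G)).subgroupOf N := normalizerMonoidHom_ker _
        have h3 : (centralizer ((P : Subgroup G) : Set G)).relIndex N = Nat.card f.range := by
          rw [relIndex, ← hk, Subgroup.index_ker]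
        rw [h3]
        have h4 : Nat.card (MulAut (P : Subgroup G)) = p - 1 := by
          rw [IsCyclic.card_mulAut, hP, Nat.totient_prime hp]
        rw [← h4]
        exact Subgroup.card_subgroup_dvd_card _
      rwa [hC1] at h2
    have h2 := hp.two_le
    exact lt_of_le_of_lt (Nat.le_of_dvd (by omega) h1) (by omega)
  have hmod : N.index ≡ 1 [MOD p] := by
    have h1 : Nat.card (Sylow p G) = N.index := P.card_eq_index_normalizer
    rw [← h1]
    exact card_sylow_modEq_one p G
  have hcG : Nat.card G = p * (e' * N.index) := by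
    rw [← N.card_mul_index, hcard, mul_assoc]
  have hee : e' = e := by
    rw [← he, hcG, Nat.mul_div_cancel_left _ hp.pos]
    have h1 : e' * N.index ≡ e' * 1 [MOD p] := hmod.mul_left e'
    rw [mul_one] at h1
    have h2 : e' * N.index % p = e' % p := h1
    rw [h2, Nat.mod_eq_of_lt hlt]
  refine ⟨P, hP, exists_sc p hp2 P hP hC1 e t ?_ ht⟩
  have h1 : (centralizer ((P : Subgroup G) : Set G)).relIndex N = e := by
    rw [hC1]
    exact hee
  exact h1

variable {p e t : ℕ} {P : Sylow p G}

theorem mod_NE' (D : SC p e t P) (hp : 2 ≤ p) {χ : IrrCharacter G} (hχ : χ ∈ D.NE) :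
    dg χ % p = 1 ∨ dg χ % p = p - 1 := by
  have h1 := D.mod_NE χ hχ
  rcases D.ε_mem χ hχ with h | h
  · left
    rw [h] at h1
    have h2 : (1 : ℤ) ≡ dg χ [ZMOD p] := (Int.modEq_iff_dvd).2 h1
    have h3 : 1 ≡ dg χ [MOD p] := by exact_mod_cast h2
    have h4 : 1 % p = dg χ % p := h3
    rw [← h4, Nat.mod_eq_of_lt (by omega)]
  · right
    rw [h] at h1
    have h2 : (p : ℤ) ∣ (dg χ + 1 : ℕ) := by
      have : ((dg χ + 1 : ℕ) : ℤ) = (dg χ : ℤ) - -1 := by push_cast; ring
      rw [this]; exact h1
    have h3 : p ∣ dg χ + 1 := by exact_mod_cast h2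
    obtain ⟨k, hk⟩ := h3
    have hk0 : 0 < k := by
      rcases Nat.eq_zero_or_pos k with h0 | h0
      · rw [h0, mul_zero] at hk; omega
      · exact h0
    obtain ⟨m, rfl⟩ : ∃ m, k = m + 1 := ⟨k - 1, by omega⟩
    have h4 : dg χ = (p - 1) + p * m := by
      rw [mul_add, mul_one] at hk
      omega
    rw [h4, Nat.add_mul_mod_self_left, Nat.mod_eq_of_lt (by omega)]

theorem mod_X' (D : SC p e t P) (he : 0 < e) (hep : e < p) {χ : IrrCharacter G} (hχ : χ ∈ D.X) :
    dg χ % p = e ∨ dg χ % p = p - e := by
  have h1 := D.mod_X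
  rw [D.deg_X χ hχ]
  rcases D.d_mem with h | h
  · left
    rw [h, one_mul] at h1
    have h2 : (e : ℤ) ≡ D.f [ZMOD p] := (Int.modEq_iff_dvd).2 h1
    have h3 : e ≡ D.f [MOD p] := by exact_mod_cast h2
    have h4 : D.f % p = e % p := h3.symm
    rw [h4, Nat.mod_eq_of_lt hep]
  · right
    rw [h] at h1
    have h2 : (p : ℤ) ∣ (D.f + e : ℕ) := by
      have : ((D.f + e : ℕ) : ℤ) = (D.f : ℤ) - -1 * e := by push_cast; ring
      rw [this]; exact h1
    have h3 : p ∣ D.f + e := by exact_mod_cast h2
    obtain ⟨k, hk⟩ := h3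
    have hk0 : 0 < k := by
      rcases Nat.eq_zero_or_pos k with h0 | h0
      · rw [h0, mul_zero] at hk; omega
      · exact h0
    obtain ⟨m, rfl⟩ : ∃ m, k = m + 1 := ⟨k - 1, by omega⟩
    have h4 : D.f = (p - e) + p * m := by
      rw [mul_add, mul_one] at hk
      omega
    rw [h4, Nat.add_mul_mod_self_left, Nat.mod_eq_of_lt (by omega)]

theorem mod_out' (D : SC p e t P) {χ : IrrCharacter G} (h1 : χ ∉ D.NE) (h2 : χ ∉ D.X) : dg χ % p = 0 :=
  Nat.mod_eq_zero_of_dvd (D.mod_out χ h1 h2)

/-- the degrees modulo `p` -/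
theorem mod_cases (D : SC p e t P) (hp : 2 ≤ p) (he : 0 < e) (hep : e < p) (χ : IrrCharacter G) :
    dg χ % p = 0 ∨ dg χ % p = 1 ∨ dg χ % p = p - 1 ∨ dg χ % p = e ∨ dg χ % p = p - e := by
  by_cases h1 : χ ∈ D.NE
  · rcases mod_NE' D hp h1 with h | h
    · exact Or.inr (Or.inl h)
    · tauto
  · by_cases h2 : χ ∈ D.X
    · rcases mod_X' D he hep h2 with h | h <;> tauto
    · exact Or.inl (mod_out' D h1 h2)

/-- the number of degrees prime to `p` -/
theorem card_ne_zero [Fintype (IrrCharacter G)] (D : SC p e t P) (hp : 2 ≤ p) (he : 0 < e) (hep : e < p) :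
    (Finset.univ.filter fun χ : IrrCharacter G => dg χ % p ≠ 0).card = e + t := by
  classical
  have h1 : (Finset.univ.filter fun χ : IrrCharacter G => dg χ % p ≠ 0) = D.NE ∪ D.X := by
    ext χ
    rw [Finset.mem_filter, Finset.mem_union]
    constructor
    · rintro ⟨-, h⟩
      by_contra hcon
      push Not at hcon
      exact h (mod_out' D hcon.1 hcon.2)
    · rintro (h | h)
      · refine ⟨Finset.mem_univ _, ?_⟩
        rcases mod_NE' D hp h with h | h
        · rw [h]; omega
        · rw [h]; omega
      · refine ⟨Finset.mem_univ _, ?_⟩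
        rcases mod_X' D he hep h with h | h <;> rw [h] <;> omega
  rw [h1, Finset.card_union_of_disjoint D.disj, D.card_NE, D.card_X]

/-- the number of nonexceptional characters -/
theorem card_one [Fintype (IrrCharacter G)] (D : SC p e t P) (hp : 2 ≤ p) (he : 1 < e) (hep : e < p - 1) :
    (Finset.univ.filter fun χ : IrrCharacter G => dg χ % p = 1 ∨ dg χ % p = p - 1).card = e := by
  classical
  have h1 : (Finset.univ.filter fun χ : IrrCharacter G => dg χ % p = 1 ∨ dg χ % p = p - 1) = D.NE := by
    ext χ
    rw [Finset.mem_filter]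
    constructor
    · rintro ⟨-, h⟩
      by_contra hcon
      by_cases h2 : χ ∈ D.X
      · rcases mod_X' D (by omega) (by omega) h2 with h3 | h3 <;> rcases h with h | h <;> omega
      · have := mod_out' D hcon h2
        omega
    · intro h
      refine ⟨Finset.mem_univ _, ?_⟩
      rcases mod_NE' D hp h with h | h
      · exact Or.inl h
      · exact Or.inr h
  rw [h1, D.card_NE]

/-- the number of exceptional characters -/
theorem card_exc [Fintype (IrrCharacter G)] (D : SC p e t P) (hp : 2 ≤ p) (he : 1 < e) (hep : e < p - 1) :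
    (Finset.univ.filter fun χ : IrrCharacter G => dg χ % p = e ∨ dg χ % p = p - e).card = t := by
  classical
  have h1 : (Finset.univ.filter fun χ : IrrCharacter G => dg χ % p = e ∨ dg χ % p = p - e) = D.X := by
    ext χ
    rw [Finset.mem_filter]
    constructor
    · rintro ⟨-, hcase⟩
      by_contra hcon
      by_cases h2 : χ ∈ D.NE
      · rcases mod_NE' D hp h2 with h3 | h3 <;> rcases hcase with h | h <;> omega
      · have := mod_out' D h2 hcon
        omega
    · intro h
      exact ⟨Finset.mem_univ _, mod_X' D (by omega) (by omega) h⟩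
  rw [h1, D.card_X]

end Cfsg.Agent.H417.BlockCount
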