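import Cfsg.Agent.Characters.Core
import Cfsg.Agent.Characters.Linear
import Mathlib.GroupTheory.FiniteAbelian.Duality
import Mathlib.Algebra.BigOperators.Field
import Cfsg.Agent.S0145
import Cfsg.Agent.CharactersDeep.Extraspecial
import Mathlib.Algebra.BigOperators.Ring.Finset
import Mathlib.Algebra.Order.BigOperators.Group.Finset
import Mathlib.Tactic.Linarith
import Mathlib.Tactic.Ring
import Mathlib.Tactic.Positivity
import Mathlib.GroupTheory.GroupAction.CardCommute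
import Mathlib.GroupTheory.GroupAction.Quotient
import Mathlib.Data.Int.ModEq
import Cfsg.Agent.FastGrp
import Cfsg.Agent.Prune
set_option linter.all false

section
prune_inst 0x7ffcfff8edad8fffdf7f7e3ffed9dff830c4cffff6fffb43ffe1e9bfcf9f03a339c56b859de058ffce76e29410b87803fb7eefffe86fdc7ffffdfff41ffbee5fe5f7378951d48c340fbc2fff03e17fba7f3fffffffffffffffffffffffffffffffffffffffff

-- part: H417/TorDual
section
set_option linter.all false
open scoped Cfsg.Agent.FastGrp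

/-!
# Fourier analysis on finite abelian groups (helper417)

* `sum_apply`, `sum_dual` : the orthogonality relations;
* `hat f ν` : the Fourier coefficient of `f` at `ν : T →* ℂˣ`; `inversion`, `parseval`;
* `sum_pairs` : sums over the dual of `A × B`.
-/

set_option autoImplicit false

namespace Cfsg.Agent.H417.TorDual

open Cfsg Finset Cfsg.Agent.Characters.Core Cfsg.Agent.Characters.Linear
open scoped ComplexConjugate Classical BigOperators

universe u v

section One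

variable {A : Type u} [CommGroup A] [Fintype A]

theorem conj_apply (θ : A →* ℂˣ) (a : A) : conj ((θ a : ℂˣ) : ℂ) = ((θ a⁻¹ : ℂˣ) : ℂ) := by
  have h1 := norm_hom_apply θ a
  have h2 : ((θ a : ℂˣ) : ℂ) * conj ((θ a : ℂˣ) : ℂ) = 1 := by
    rw [Complex.mul_conj, Complex.normSq_eq_norm_sq, h1]; norm_num
  rw [map_inv, Units.val_inv_eq_inv_val]
  exact eq_inv_of_mul_eq_one_right h2

theorem sum_apply (θ : A →* ℂˣ) : ∑ a, ((θ a : ℂˣ) : ℂ) = if θ = 1 then (Nat.card A : ℂ) else 0 := by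
  split_ifs with h
  · subst h; simp [Nat.card_eq_fintype_card]
  · exact sum_hom_units_eq_zero (G := A) (R := ℂ) ((Units.coeHom ℂ).comp θ) fun h1 =>
      h (MonoidHom.ext fun a => Units.ext (by simpa using DFunLike.congr_fun h1 a))

theorem sum_dual [Fintype (A →* ℂˣ)] (a : A) :
    ∑ θ : A →* ℂˣ, ((θ a : ℂˣ) : ℂ) = if a = 1 then (Nat.card A : ℂ) else 0 := by
  split_ifs with h
  · subst h
    simp only [map_one, Units.val_one, Finset.sum_const, Finset.card_univ, nsmul_eq_mul, mul_one]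
    rw [← Nat.card_eq_fintype_card, CommGroup.card_monoidHom_of_hasEnoughRootsOfUnity]
  · obtain ⟨θ0, h0⟩ := CommGroup.exists_apply_ne_one_of_hasEnoughRootsOfUnity A ℂ h
    exact sum_hom_units_eq_zero (G := A →* ℂˣ) (R := ℂ) ((Units.coeHom ℂ).comp (MonoidHom.eval a)) fun h1 =>
      h0 (Units.ext (by simpa using DFunLike.congr_fun h1 θ0))

/-- the Fourier coefficient -/
noncomputable def hat (f : A → ℂ) (ν : A →* ℂˣ) : ℂ := classInner f fun a => ((ν a : ℂˣ) : ℂ)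

theorem hat_def (f : A → ℂ) (ν : A →* ℂˣ) : hat f ν = (Nat.card A : ℂ)⁻¹ * ∑ a, f a * ((ν a⁻¹ : ℂˣ) : ℂ) := by
  rw [hat, classInner_def]
  congr 1
  exact Finset.sum_congr rfl fun a _ => by rw [conj_apply]

theorem inversion [Fintype (A →* ℂˣ)] (f : A → ℂ) (a : A) :
    f a = ∑ ν : A →* ℂˣ, hat f ν * ((ν a : ℂˣ) : ℂ) := by
  have h0 : (Nat.card A : ℂ) ≠ 0 := card_ne_zero_complex
  have h1 : ∀ ν : A →* ℂˣ, hat f ν * ((ν a : ℂˣ) : ℂ) =
      (Nat.card A : ℂ)⁻¹ * ∑ b, f b * ((ν (b⁻¹ * a) : ℂˣ) : ℂ) := by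
    intro ν
    rw [hat_def, mul_assoc, Finset.sum_mul]
    congr 1
    refine Finset.sum_congr rfl fun b _ => ?_
    rw [map_mul, Units.val_mul]
    ring
  rw [Finset.sum_congr rfl fun ν _ => h1 ν, ← Finset.mul_sum, Finset.sum_comm]
  have h2 : ∀ b : A, ∑ ν : A →* ℂˣ, f b * ((ν (b⁻¹ * a) : ℂˣ) : ℂ) = if b = a then f b * (Nat.card A : ℂ) else 0 := by
    intro b
    rw [← Finset.mul_sum, sum_dual]
    by_cases h : b = a
    · rw [if_pos h, if_pos (by rw [h]; group)]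
    · rw [if_neg h, if_neg (fun h1 => h (inv_mul_eq_one.1 h1)), mul_zero]
  rw [Finset.sum_congr rfl fun b _ => h2 b, Finset.sum_ite_eq' Finset.univ a, if_pos (Finset.mem_univ a)]
  field_simp

/-- orthogonality of two characters -/
theorem sum_mul_conj (ν ν' : A →* ℂˣ) :
    ∑ a, ((ν a : ℂˣ) : ℂ) * conj ((ν' a : ℂˣ) : ℂ) = if ν = ν' then (Nat.card A : ℂ) else 0 := by
  have h1 : ∀ a, ((ν a : ℂˣ) : ℂ) * conj ((ν' a : ℂˣ) : ℂ) = (((ν * ν'⁻¹) a : ℂˣ) : ℂ) := by
    intro a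
    rw [conj_apply, MonoidHom.mul_apply, MonoidHom.inv_apply, map_inv, Units.val_mul]
  rw [Finset.sum_congr rfl fun a _ => h1 a, sum_apply]
  by_cases h : ν = ν'
  · rw [if_pos h, if_pos (mul_inv_eq_one.2 h)]
  · rw [if_neg h, if_neg (fun h1 => h (mul_inv_eq_one.1 h1))]

theorem parseval_sum [Fintype (A →* ℂˣ)] (c d : (A →* ℂˣ) → ℂ) :
    ∑ a, (∑ ν : A →* ℂˣ, c ν * ((ν a : ℂˣ) : ℂ)) * conj (∑ ν : A →* ℂˣ, d ν * ((ν a : ℂˣ) : ℂ)) =
      (Nat.card A : ℂ) * ∑ ν : A →* ℂˣ, c ν * conj (d ν) := by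
  have h1 : ∀ a, (∑ ν : A →* ℂˣ, c ν * ((ν a : ℂˣ) : ℂ)) * conj (∑ ν : A →* ℂˣ, d ν * ((ν a : ℂˣ) : ℂ)) =
      ∑ ν : A →* ℂˣ, ∑ ν' : A →* ℂˣ, (c ν * conj (d ν')) * (((ν a : ℂˣ) : ℂ) * conj ((ν' a : ℂˣ) : ℂ)) := by
    intro a
    rw [map_sum, Finset.sum_mul_sum]
    refine Finset.sum_congr rfl fun ν _ => Finset.sum_congr rfl fun ν' _ => ?_
    rw [map_mul]; ring
  rw [Finset.sum_congr rfl fun a _ => h1 a, Finset.sum_comm, Finset.mul_sum]
  refine Finset.sum_congr rfl fun ν _ => ?_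
  rw [Finset.sum_comm]
  have h2 : ∀ ν' : A →* ℂˣ, ∑ a, (c ν * conj (d ν')) * (((ν a : ℂˣ) : ℂ) * conj ((ν' a : ℂˣ) : ℂ)) =
      if ν = ν' then (c ν * conj (d ν')) * (Nat.card A : ℂ) else 0 := by
    intro ν'
    rw [← Finset.mul_sum, sum_mul_conj]
    split_ifs <;> simp
  rw [Finset.sum_congr rfl fun ν' _ => h2 ν', Finset.sum_ite_eq Finset.univ ν, if_pos (Finset.mem_univ ν)]
  ring

theorem parseval [Fintype (A →* ℂˣ)] (f g : A → ℂ) :
    ∑ a, f a * conj (g a) = (Nat.card A : ℂ) * ∑ ν : A →* ℂˣ, hat f ν * conj (hat g ν) := by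
  rw [← parseval_sum]
  refine Finset.sum_congr rfl fun a _ => ?_
  rw [← inversion, ← inversion]

end One

section Two

variable {A : Type u} {B : Type v} [CommGroup A] [CommGroup B] [Fintype A] [Fintype B]

/-- the dual of a product -/
def pairEquiv : ((A →* ℂˣ) × (B →* ℂˣ)) ≃ (A × B →* ℂˣ) where
  toFun p := p.1.coprod p.2
  invFun ν := (ν.comp (MonoidHom.inl A B), ν.comp (MonoidHom.inr A B))
  left_inv p := by
    ext1
    · exact MonoidHom.coprod_comp_inl _ _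
    · exact MonoidHom.coprod_comp_inr _ _
  right_inv ν := MonoidHom.coprod_unique ν

omit [Fintype A] [Fintype B] in
theorem sum_pairs [Fintype (A →* ℂˣ)] [Fintype (B →* ℂˣ)] [Fintype (A × B →* ℂˣ)] {M : Type*} [AddCommMonoid M]
    (F : (A × B →* ℂˣ) → M) :
    ∑ ν : A × B →* ℂˣ, F ν = ∑ μ : B →* ℂˣ, ∑ θ : A →* ℂˣ, F (θ.coprod μ) := by
  rw [Finset.sum_comm, ← Fintype.sum_prod_type' (f := fun (θ : A →* ℂˣ) (μ : B →* ℂˣ) => F (θ.coprod μ))]
  exact (Equiv.sum_comp pairEquiv F).symm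

end Two

end Cfsg.Agent.H417.TorDual

private theorem dce_05da270d0c91 : _root_.True := by
  try have : _root_.True := by simp only [_root_.Cfsg.Agent.H417.TorDual.hat.eq_1]
  exact _root_.True.intro
end

-- part: H417/TorRow
section
prune_inst 0x20003000200000080018000020003c6282000000004b8000c120020406c50c6220018621f22001101012ac440838004811000040020800000000000001180080000002000000a100200000812004500000000000000000000000000000000000000000000
set_option linter.all false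
open scoped Cfsg.Agent.FastGrp

/-!
# Self-centralizing cyclic tori: row and column relations (helper417)

`Tor φ` : `φ : A × B →* G` is injective, `A × B` is cyclic and every element of `G` commuting with some `φ (a, b)`,
`a ≠ 1`, lies in the range `T` of `φ`.  `N` is the normalizer of `T`.

* `mul φ χ θ μ` : the multiplicity of `θ × μ` in the restriction of `χ`;
* `row` : `|A| ∑ m² - ∑_μ (∑_θ m)² ≤ |N : T| |A|`;
* `col` : the column relation for two characters `θ, θ'` of `A` and a fixed `N`-invariant `μ`.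
-/

set_option autoImplicit false
set_option linter.unusedSectionVars false

namespace Cfsg.Agent.H417.TorRow

open Cfsg Finset Cfsg.Agent.Characters.Core Cfsg.Agent.Characters.Linear Cfsg.Agent.H417.TorDual
open scoped ComplexConjugate Classical BigOperators

universe u v w

variable {G : Type u} [Group G] {A : Type v} {B : Type w} [CommGroup A] [CommGroup B]

structure Tor (φ : A × B →* G) : Prop where
  inj : Function.Injective φ
  cent : ∀ a b, a ≠ 1 → ∀ g : G, g * φ (a, b) = φ (a, b) * g → g ∈ φ.range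
  cyc : IsCyclic (A × B)

/-- the normalizer of the torus -/
def NT (φ : A × B →* G) : Subgroup G := Subgroup.normalizer (φ.range : Set G)

theorem range_le (φ : A × B →* G) : φ.range ≤ NT φ := Subgroup.le_normalizer

variable {φ : A × B →* G}

theorem Tor.mem_NT (h : Tor φ) [Finite G] {a a' : A} {b b' : B} (ha : a ≠ 1) {g : G}
    (hg : g * φ (a', b') * g⁻¹ = φ (a, b)) : g ∈ NT φ := by
  have key : ∀ t ∈ φ.range, g * t * g⁻¹ ∈ φ.range := by
    rintro _ ⟨y, rfl⟩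
    apply h.cent a b ha
    have h1 : φ y * φ (a', b') = φ (a', b') * φ y := by rw [← map_mul, ← map_mul, mul_comm]
    calc g * φ y * g⁻¹ * φ (a, b) = g * (φ y * φ (a', b')) * g⁻¹ := by rw [← hg]; group
      _ = φ (a, b) * (g * φ y * g⁻¹) := by rw [h1, ← hg]; group
  set c : G →* G := (MulAut.conj g).toMonoidHom with hc
  have h2 : φ.range.map c ≤ φ.range := by
    rintro _ ⟨t, ht, rfl⟩
    exact key t ht
  have h3 : φ.range.map c = φ.range := by
    refine Subgroup.eq_of_le_of_card_ge h2 ?_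
    rw [Nat.card_congr (Subgroup.equivMapOfInjective φ.range c (MulAut.conj g).injective).symm.toEquiv]
  rw [NT, Subgroup.mem_normalizer_iff]
  intro t
  constructor
  · exact key t
  · intro ht
    have h4 : g * t * g⁻¹ ∈ φ.range.map c := by rw [h3]; exact ht
    obtain ⟨t', ht', h5⟩ := h4
    have h6 : g * t' * g⁻¹ = g * t * g⁻¹ := h5
    have h7 : t' = t := by simpa using h6
    rw [← h7]; exact ht'

theorem Tor.exists_pow (h : Tor φ) [Finite A] [Finite B] {g : G} (hg : g ∈ NT φ) :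
    ∃ k : ℕ, ∀ y, g * φ y * g⁻¹ = φ (y ^ k) := by
  obtain ⟨y0, hy0⟩ := h.cyc.exists_generator
  have h1 : g * φ y0 * g⁻¹ ∈ φ.range := (Subgroup.mem_normalizer_iff.1 hg _).1 ⟨y0, rfl⟩
  obtain ⟨y1, hy1⟩ := h1
  obtain ⟨k, hk⟩ := (mem_powers_iff_mem_zpowers.2 (hy0 y1))
  have hk' : y0 ^ k = y1 := hk
  refine ⟨k, fun y => ?_⟩
  obtain ⟨j, hj⟩ := (mem_powers_iff_mem_zpowers.2 (hy0 y))
  have hj' : y0 ^ j = y := hj
  rw [← hj', map_pow, ← conj_pow, ← hy1, ← hk', ← pow_mul, map_pow, map_pow, ← pow_mul, mul_comm]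

/-- the exponent of the action of a normalizing element -/
noncomputable def kap (φ : A × B →* G) (g : G) : ℕ :=
  if h : ∃ k : ℕ, ∀ y, g * φ y * g⁻¹ = φ (y ^ k) then h.choose else 0

theorem Tor.kap_spec (h : Tor φ) [Finite A] [Finite B] {g : G} (hg : g ∈ NT φ) (y : A × B) :
    g * φ y * g⁻¹ = φ (y ^ kap φ g) := by
  have h1 := h.exists_pow hg
  rw [kap, dif_pos h1]
  exact h1.choose_spec y

section Sums

variable [Fintype G] [Fintype A] [Fintype B]

/-- Column orthogonality, counting form. -/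
theorem irr_col [Fintype (IrrCharacter G)] (g h : G) :
    ∑ χ : IrrCharacter G, (χ : G → ℂ) g * conj ((χ : G → ℂ) h) =
      ∑ x : G, if x * h * x⁻¹ = g then (1 : ℂ) else 0 := by
  rw [Cfsg.Agent.S0145.sum_irr_mul_conj, Finset.sum_boole]
  split_ifs with hc
  · obtain ⟨c, hc⟩ := isConj_iff.1 hc
    congr 1
    have e : ↥(Subgroup.centralizer ({h} : Set G)) ≃ {x : G // x * h * x⁻¹ = g} :=
      { toFun := fun x => ⟨c⁻¹ * x, by
          obtain ⟨x, hx0⟩ := x
          have hx : x * h = h * x := Subgroup.mem_centralizer_singleton_iff.1 hx0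
          show c⁻¹ * x * h * (c⁻¹ * x)⁻¹ = g
          calc c⁻¹ * x * h * (c⁻¹ * x)⁻¹ = c⁻¹ * (x * h) * x⁻¹ * c := by group
            _ = c⁻¹ * h * c := by rw [hx]; group
            _ = g := by rw [← hc]; group⟩
        invFun := fun x => ⟨c * x, by
          obtain ⟨x, hx⟩ := x
          rw [Subgroup.mem_centralizer_singleton_iff]
          show c * x * h = h * (c * x)
          calc c * x * h = c * (x * h * x⁻¹) * x := by group
            _ = c * g * x := by rw [hx]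
            _ = (c * g * c⁻¹) * (c * x) := by group
            _ = h * (c * x) := by rw [hc]⟩
        left_inv := fun x => by simp
        right_inv := fun x => by simp }
    rw [Nat.card_congr e, Nat.card_eq_fintype_card, Fintype.card_subtype]
  · rw [Finset.card_eq_zero.2, Nat.cast_zero]
    rw [Finset.filter_eq_empty_iff]
    intro x _ hx
    exact hc (isConj_comm.1 (isConj_iff.2 ⟨x, hx⟩))

theorem Tor.col_sum (hT : Tor φ) [Fintype (IrrCharacter G)] (F F' : A × B → ℂ) (hF : ∀ y, y.1 = 1 → F y = 0)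
    (hF' : ∀ y, y.1 = 1 → F' y = 0) :
    ∑ χ : IrrCharacter G, (∑ y, (χ : G → ℂ) (φ y) * conj (F y)) * conj (∑ y, (χ : G → ℂ) (φ y) * conj (F' y)) =
      ∑ x ∈ univ.filter (fun x => x ∈ NT φ), ∑ y, F' y * conj (F (y ^ kap φ x)) := by
  have h1 : ∀ χ : IrrCharacter G,
      (∑ y, (χ : G → ℂ) (φ y) * conj (F y)) * conj (∑ y, (χ : G → ℂ) (φ y) * conj (F' y)) =
      ∑ y, ∑ y', (conj (F y) * F' y') * ((χ : G → ℂ) (φ y) * conj ((χ : G → ℂ) (φ y'))) := by
    intro χ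
    rw [map_sum, Finset.sum_mul_sum]
    refine Finset.sum_congr rfl fun y _ => Finset.sum_congr rfl fun y' _ => ?_
    rw [map_mul, Complex.conj_conj]; ring
  rw [Finset.sum_congr rfl fun χ _ => h1 χ, Finset.sum_comm]
  have h2 : ∀ y, ∑ χ : IrrCharacter G, ∑ y', (conj (F y) * F' y') * ((χ : G → ℂ) (φ y) * conj ((χ : G → ℂ) (φ y'))) =
      ∑ y', ∑ x : G, (conj (F y) * F' y') * (if x * φ y' * x⁻¹ = φ y then (1 : ℂ) else 0) := by
    intro y
    rw [Finset.sum_comm]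
    refine Finset.sum_congr rfl fun y' _ => ?_
    rw [← Finset.mul_sum, irr_col, ← Finset.mul_sum]
  rw [Finset.sum_congr rfl fun y _ => h2 y]
  have h3 : ∀ y, ∑ y', ∑ x : G, (conj (F y) * F' y') * (if x * φ y' * x⁻¹ = φ y then (1 : ℂ) else 0) =
      ∑ x : G, ∑ y', (conj (F y) * F' y') * (if x * φ y' * x⁻¹ = φ y then (1 : ℂ) else 0) := fun y => Finset.sum_comm
  rw [Finset.sum_congr rfl fun y _ => h3 y, Finset.sum_comm]
  rw [Finset.sum_filter]
  refine Finset.sum_congr rfl fun x _ => ?_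
  rw [Finset.sum_comm]
  split_ifs with hx
  · refine Finset.sum_congr rfl fun y' _ => ?_
    rw [Finset.sum_eq_single (y' ^ kap φ x)]
    · rw [if_pos (hT.kap_spec hx y'), mul_one, mul_comm]
    · intro y _ hy
      rw [if_neg, mul_zero]
      rw [hT.kap_spec hx]
      exact fun h => hy (hT.inj h).symm
    · intro h; exact absurd (Finset.mem_univ _) h
  · refine Finset.sum_eq_zero fun y' _ => Finset.sum_eq_zero fun y _ => ?_
    by_cases hy : y.1 = 1
    · rw [hF y hy]; simp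
    by_cases hy' : y'.1 = 1
    · rw [hF' y' hy']; simp
    rw [if_neg, mul_zero]
    intro h4
    exact hx (hT.mem_NT hy (a' := y'.1) (b' := y'.2) (b := y.2) h4)

/-! ### Multiplicities -/

/-- the multiplicity of `θ × μ` in the restriction of `χ` -/
noncomputable def mul (φ : A × B →* G) (χ : G → ℂ) (θ : A →* ℂˣ) (μ : B →* ℂˣ) : ℤ :=
  if h : ∃ n : ℕ, hat (fun y => χ (φ y)) (θ.coprod μ) = n then h.choose else 0

theorem mul_spec {χ : G → ℂ} (hχ : IsCharacter G χ) (θ : A →* ℂˣ) (μ : B →* ℂˣ) :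
    hat (fun y => χ (φ y)) (θ.coprod μ) = (mul φ χ θ μ : ℂ) := by
  have h : ∃ n : ℕ, hat (fun y => χ (φ y)) (θ.coprod μ) = n :=
    classInner_isNat (isCharacter_comp φ hχ) (isCharacter_hom (θ.coprod μ))
  rw [mul, dif_pos h]
  push_cast
  exact h.choose_spec

theorem Tor.bij (hT : Tor φ) {x : G} (hx : x ∈ NT φ) : Function.Bijective fun y : A × B => y ^ kap φ x := by
  rw [← Finite.injective_iff_bijective]
  intro y y' h
  have h1 : φ (y ^ kap φ x) = φ (y' ^ kap φ x) := congrArg φ h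
  rw [← hT.kap_spec hx, ← hT.kap_spec hx] at h1
  exact hT.inj (by simpa using h1)

theorem Tor.mul_pow (hT : Tor φ) {χ : G → ℂ} (hχ : IsCharacter G χ) {x : G} (hx : x ∈ NT φ) (θ : A →* ℂˣ)
    (μ : B →* ℂˣ) : mul φ χ (θ ^ kap φ x) (μ ^ kap φ x) = mul φ χ θ μ := by
  have h1 : ((mul φ χ (θ ^ kap φ x) (μ ^ kap φ x) : ℤ) : ℂ) = (mul φ χ θ μ : ℂ) := by
    rw [← mul_spec hχ, ← mul_spec hχ, hat_def, hat_def]
    congr 1
    symm
    rw [← (Equiv.ofBijective _ (hT.bij hx)).sum_comp]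
    refine Finset.sum_congr rfl fun y _ => ?_
    show χ (φ (y ^ kap φ x)) * _ = _
    rw [← hT.kap_spec hx, isCharacter_isClassFunction hχ]
    congr 2
    show (θ.coprod μ) ((y ^ kap φ x)⁻¹) = _
    simp [MonoidHom.coprod_apply]
  exact_mod_cast h1

variable [Fintype (A →* ℂˣ)] [Fintype (B →* ℂˣ)]

theorem apply_eq {χ : G → ℂ} (hχ : IsCharacter G χ) (y : A × B) :
    χ (φ y) = ∑ μ : B →* ℂˣ, ∑ θ : A →* ℂˣ, (mul φ χ θ μ : ℂ) * (((θ y.1 : ℂˣ) : ℂ) * ((μ y.2 : ℂˣ) : ℂ)) := by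
  have := Fintype.ofFinite (A × B →* ℂˣ)
  have h := inversion (fun y => χ (φ y)) y
  rw [sum_pairs] at h
  rw [h]
  refine Finset.sum_congr rfl fun μ _ => Finset.sum_congr rfl fun θ _ => ?_
  rw [mul_spec hχ, MonoidHom.coprod_apply, Units.val_mul]

theorem degree_eq {χ : G → ℂ} (hχ : IsCharacter G χ) :
    χ 1 = ((∑ μ : B →* ℂˣ, ∑ θ : A →* ℂˣ, mul φ χ θ μ : ℤ) : ℂ) := by
  have h := apply_eq (φ := φ) hχ 1
  rw [map_one] at h
  rw [h]
  push_cast
  refine Finset.sum_congr rfl fun μ _ => Finset.sum_congr rfl fun θ _ => ?_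
  simp

theorem sum_sq {χ : G → ℂ} (hχ : IsCharacter G χ) :
    ∑ y, χ (φ y) * conj (χ (φ y)) =
      (Nat.card A * Nat.card B : ℂ) * ∑ μ : B →* ℂˣ, ∑ θ : A →* ℂˣ, (mul φ χ θ μ : ℂ) ^ 2 := by
  have := Fintype.ofFinite (A × B →* ℂˣ)
  have h := parseval (fun y => χ (φ y)) (fun y => χ (φ y))
  rw [h, sum_pairs, Nat.card_prod]
  push_cast
  congr 1
  refine Finset.sum_congr rfl fun μ _ => Finset.sum_congr rfl fun θ _ => ?_
  rw [mul_spec hχ, sq]
  congr 1
  exact map_intCast _ _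

theorem sum_sq_one {χ : G → ℂ} (hχ : IsCharacter G χ) :
    ∑ b, χ (φ (1, b)) * conj (χ (φ (1, b))) =
      (Nat.card B : ℂ) * ∑ μ : B →* ℂˣ, (∑ θ : A →* ℂˣ, (mul φ χ θ μ : ℂ)) ^ 2 := by
  have h1 : ∀ b, χ (φ (1, b)) = ∑ μ : B →* ℂˣ, (∑ θ : A →* ℂˣ, (mul φ χ θ μ : ℂ)) * ((μ b : ℂˣ) : ℂ) := by
    intro b
    rw [apply_eq hχ]
    refine Finset.sum_congr rfl fun μ _ => ?_
    rw [Finset.sum_mul]
    refine Finset.sum_congr rfl fun θ _ => ?_
    simp
  rw [Finset.sum_congr rfl fun b _ => by rw [h1 b], parseval_sum]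
  congr 1
  refine Finset.sum_congr rfl fun μ _ => ?_
  rw [map_sum, sq]
  congr 1
  exact Finset.sum_congr rfl fun θ _ => map_intCast _ _

/-! ### The row bound -/

theorem Tor.card_fiber (hT : Tor φ) (g : G) :
    (univ.filter fun p : G × (A × B) => p.2.1 ≠ 1 ∧ p.1 * φ p.2 * p.1⁻¹ = g).card ≤ Nat.card (NT φ) := by
  rcases Finset.eq_empty_or_nonempty (univ.filter fun p : G × (A × B) => p.2.1 ≠ 1 ∧ p.1 * φ p.2 * p.1⁻¹ = g)
    with h0 | ⟨⟨x0, y0⟩, h0⟩
  · rw [h0, Finset.card_empty]; exact Nat.zero_le _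
  rw [Finset.mem_filter] at h0
  obtain ⟨-, h01, h02⟩ := h0
  have h02' : x0 * φ y0 * x0⁻¹ = g := h02
  have hc : Nat.card (NT φ) = (univ.filter fun x : G => x ∈ NT φ).card := by
    rw [Nat.card_eq_fintype_card, Fintype.card_subtype]
  rw [hc]
  refine Finset.card_le_card_of_injOn (fun p => p.1⁻¹ * x0) ?_ ?_
  · rintro ⟨x, y⟩ hp
    rw [Finset.mem_coe, Finset.mem_filter] at hp
    obtain ⟨-, hp1, hp2⟩ := hp
    have hp2' : x * φ y * x⁻¹ = g := hp2
    rw [Finset.mem_coe, Finset.mem_filter]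
    refine ⟨Finset.mem_univ _, ?_⟩
    refine hT.mem_NT (a := y.1) (b := y.2) (a' := y0.1) (b' := y0.2) hp1 ?_
    show x⁻¹ * x0 * φ y0 * (x⁻¹ * x0)⁻¹ = φ y
    calc x⁻¹ * x0 * φ y0 * (x⁻¹ * x0)⁻¹ = x⁻¹ * (x0 * φ y0 * x0⁻¹) * x := by group
      _ = x⁻¹ * (x * φ y * x⁻¹) * x := by rw [h02', hp2']
      _ = φ y := by group
  · rintro ⟨x, y⟩ hp ⟨x', y'⟩ hp' h
    rw [Finset.mem_coe, Finset.mem_filter] at hp hp'
    have hx : x = x' := by
      have h' : x⁻¹ * x0 = x'⁻¹ * x0 := h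
      simpa using h'
    subst hx
    have h3 : x * φ y * x⁻¹ = x * φ y' * x⁻¹ := hp.2.2.trans hp'.2.2.symm
    have h4 : φ y = φ y' := by simpa using h3
    rw [hT.inj h4]

theorem Tor.row_real (hT : Tor φ) {χ : G → ℂ} (hχ : IsIrrCharacter G χ) :
    ∑ y ∈ univ.filter (fun y : A × B => y.1 ≠ 1), Complex.normSq (χ (φ y)) ≤ (Nat.card (NT φ) : ℝ) := by
  have hG0 : (0 : ℝ) < Nat.card G := by exact_mod_cast Nat.card_pos
  have htot : ∑ g : G, Complex.normSq (χ g) = (Nat.card G : ℝ) := by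
    have h1 := classInner_irr_self hχ
    rw [classInner_def] at h1
    have h2 : ∑ g : G, χ g * conj (χ g) = (Nat.card G : ℂ) := by
      have h3 : (Nat.card G : ℂ) ≠ 0 := card_ne_zero_complex
      field_simp at h1
      exact h1
    have h3 : ((∑ g : G, Complex.normSq (χ g) : ℝ) : ℂ) = (Nat.card G : ℂ) := by
      rw [← h2]
      push_cast
      exact Finset.sum_congr rfl fun g _ => (Complex.mul_conj _).symm
    exact_mod_cast h3
  have hcl : ∀ x y, χ (x * φ y * x⁻¹) = χ (φ y) := fun x y => isIrr_isClassFunction hχ _ _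
  have key : (Nat.card G : ℝ) * ∑ y ∈ univ.filter (fun y : A × B => y.1 ≠ 1), Complex.normSq (χ (φ y)) ≤
      (Nat.card G : ℝ) * Nat.card (NT φ) := by
    have h1 : (Nat.card G : ℝ) * ∑ y ∈ univ.filter (fun y : A × B => y.1 ≠ 1), Complex.normSq (χ (φ y)) =
        ∑ p ∈ univ.filter (fun p : G × (A × B) => p.2.1 ≠ 1), Complex.normSq (χ (p.1 * φ p.2 * p.1⁻¹)) := by
      have hR : ∑ p ∈ univ.filter (fun p : G × (A × B) => p.2.1 ≠ 1), Complex.normSq (χ (p.1 * φ p.2 * p.1⁻¹)) =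
          ∑ x : G, ∑ y : A × B, if y.1 ≠ 1 then Complex.normSq (χ (x * φ y * x⁻¹)) else 0 := by
        rw [Finset.sum_filter, Fintype.sum_prod_type]
      rw [hR, Finset.sum_filter]
      simp only [hcl]
      rw [Finset.sum_const, Finset.card_univ, nsmul_eq_mul, Nat.card_eq_fintype_card]
    have h2 : ∑ p ∈ univ.filter (fun p : G × (A × B) => p.2.1 ≠ 1), Complex.normSq (χ (p.1 * φ p.2 * p.1⁻¹)) =
        ∑ g : G, ∑ p ∈ univ.filter (fun p : G × (A × B) => p.2.1 ≠ 1),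
          (if p.1 * φ p.2 * p.1⁻¹ = g then Complex.normSq (χ g) else 0) := by
      rw [Finset.sum_comm]
      refine Finset.sum_congr rfl fun p _ => ?_
      rw [Finset.sum_ite_eq Finset.univ, if_pos (Finset.mem_univ _)]
    rw [h1, h2, ← htot, Finset.sum_mul]
    refine Finset.sum_le_sum fun g _ => ?_
    rw [← Finset.sum_filter, Finset.sum_const, Finset.filter_filter, nsmul_eq_mul, mul_comm]
    refine mul_le_mul_of_nonneg_left ?_ (Complex.normSq_nonneg _)
    exact_mod_cast hT.card_fiber g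
  exact le_of_mul_le_mul_left key hG0

/-- **The row bound.** -/
theorem Tor.row (hT : Tor φ) {χ : G → ℂ} (hχ : IsIrrCharacter G χ) {e : ℕ}
    (he : Nat.card (NT φ) = e * (Nat.card A * Nat.card B)) :
    (Nat.card A : ℤ) * (∑ μ : B →* ℂˣ, ∑ θ : A →* ℂˣ, (mul φ χ θ μ) ^ 2) -
      ∑ μ : B →* ℂˣ, (∑ θ : A →* ℂˣ, mul φ χ θ μ) ^ 2 ≤ e * Nat.card A := by
  have hc := isIrr_isCharacter hχ
  have h1 := hT.row_real hχ
  have h2 : ((∑ y ∈ univ.filter (fun y : A × B => y.1 ≠ 1), Complex.normSq (χ (φ y)) : ℝ) : ℂ) =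
      (∑ y, χ (φ y) * conj (χ (φ y))) - ∑ b, χ (φ (1, b)) * conj (χ (φ (1, b))) := by
    have h3 : ∑ y, χ (φ y) * conj (χ (φ y)) = ∑ y ∈ univ.filter (fun y : A × B => y.1 ≠ 1), χ (φ y) * conj (χ (φ y)) +
        ∑ y ∈ univ.filter (fun y : A × B => ¬ y.1 ≠ 1), χ (φ y) * conj (χ (φ y)) :=
      (Finset.sum_filter_add_sum_filter_not _ _ _).symm
    have h4 : ∑ y ∈ univ.filter (fun y : A × B => ¬ y.1 ≠ 1), χ (φ y) * conj (χ (φ y)) =
        ∑ b, χ (φ (1, b)) * conj (χ (φ (1, b))) := by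
      symm
      refine Finset.sum_bij (fun b _ => ((1, b) : A × B)) (fun b _ => by simp) (fun b _ b' _ h => by simpa using h)
        (fun y hy => ?_) fun b _ => rfl
      rw [Finset.mem_filter] at hy
      exact ⟨y.2, Finset.mem_univ _, Prod.ext (not_not.1 hy.2).symm rfl⟩
    rw [h3, h4, add_sub_cancel_right]
    push_cast
    exact Finset.sum_congr rfl fun y _ => (Complex.mul_conj _).symm
  rw [sum_sq hc, sum_sq_one hc] at h2
  set S := ∑ μ : B →* ℂˣ, ∑ θ : A →* ℂˣ, (mul φ χ θ μ) ^ 2 with hS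
  set S' := ∑ μ : B →* ℂˣ, (∑ θ : A →* ℂˣ, mul φ χ θ μ) ^ 2 with hS'
  have h5 : ∑ y ∈ univ.filter (fun y : A × B => y.1 ≠ 1), Complex.normSq (χ (φ y)) =
      (Nat.card B : ℝ) * ((Nat.card A : ℝ) * (S : ℝ) - (S' : ℝ)) := by
    have h6 : ((∑ y ∈ univ.filter (fun y : A × B => y.1 ≠ 1), Complex.normSq (χ (φ y)) : ℝ) : ℂ) =
        (((Nat.card B : ℝ) * ((Nat.card A : ℝ) * (S : ℝ) - (S' : ℝ)) : ℝ) : ℂ) := by
      rw [h2, hS, hS']
      push_cast
      ring
    exact_mod_cast h6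
  rw [h5, he] at h1
  have hB : (0 : ℝ) < Nat.card B := by exact_mod_cast Nat.card_pos
  have h7 : (Nat.card B : ℝ) * ((Nat.card A : ℝ) * (S : ℝ) - (S' : ℝ)) ≤ (Nat.card B : ℝ) * (e * Nat.card A) := by
    refine h1.trans (le_of_eq ?_)
    push_cast
    ring
  have h8 := le_of_mul_le_mul_left h7 hB
  exact_mod_cast h8

end Sums

end Cfsg.Agent.H417.TorRow

private theorem dce_a0fdd1975da7 : _root_.True := by
  try have : _root_.True := by simp only [_root_.Cfsg.Agent.H417.TorRow.NT.eq_1]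
  try have : _root_.True := by simp only [_root_.Cfsg.Agent.H417.TorRow.kap.eq_1]
  try have : _root_.True := by simp only [_root_.Cfsg.Agent.H417.TorRow.mul.eq_1]
  exact _root_.True.intro
end

-- part: H417/TorCol
section
prune_inst 0x502100000208001c000242007c0081000090004b8000c16402040b0408622901a6014820011810d2ae80080100081100006002000000000004000000000088824200b308a10424000f812000580c00000000000000000000000000000000000000000
set_option linter.all false
open scoped Cfsg.Agent.FastGrp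

/-!
# Self-centralizing cyclic tori with central second factor: orbits and columns (helper417)

`Tor φ`, `φ : A × B →* G`, and `φ (1, b)` central in `G` for all `b`.
-/

set_option autoImplicit false
set_option linter.unusedSectionVars false

namespace Cfsg.Agent.H417.TorCol

open Cfsg Finset Cfsg.Agent.Characters.Core Cfsg.Agent.Characters.Linear Cfsg.Agent.H417.TorDual
  Cfsg.Agent.H417.TorRow
open scoped ComplexConjugate Classical BigOperators

universe u v w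

variable {G : Type u} [Group G] {A : Type v} {B : Type w} [CommGroup A] [CommGroup B]

/-- `φ (1, b)` is central -/
def CenB (φ : A × B →* G) : Prop := ∀ b g, g * φ (1, b) = φ (1, b) * g

variable {φ : A × B →* G} [Fintype G] [Fintype A] [Fintype B]

theorem kap_snd (hT : Tor φ) (hB : CenB φ) {x : G} (hx : x ∈ NT φ) (b : B) : b ^ kap φ x = b := by
  have h1 := hT.kap_spec hx (1, b)
  rw [hB b x, mul_inv_cancel_right] at h1
  have h2 := hT.inj h1
  simpa using (congrArg Prod.snd h2).symm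

theorem mu_kap (hT : Tor φ) (hB : CenB φ) {x : G} (hx : x ∈ NT φ) (μ : B →* ℂˣ) : μ ^ kap φ x = μ := by
  ext b
  rw [MonoidHom.pow_apply, ← map_pow, kap_snd hT hB hx]

theorem kap_fst (hT : Tor φ) {x : G} (hx : x ∈ NT φ) (a : A) : x * φ (a, 1) * x⁻¹ = φ (a ^ kap φ x, 1) := by
  rw [hT.kap_spec hx]
  simp

theorem pow_inj (hT : Tor φ) {x : G} (hx : x ∈ NT φ) : Function.Bijective fun a : A => a ^ kap φ x := by
  rw [← Finite.injective_iff_bijective]
  intro a a' h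
  have h1 : φ (a ^ kap φ x, 1) = φ (a' ^ kap φ x, 1) := by
    have h' : a ^ kap φ x = a' ^ kap φ x := h
    rw [h']
  rw [← kap_fst hT hx, ← kap_fst hT hx] at h1
  have h2 : φ (a, 1) = φ (a', 1) := by simpa using h1
  exact congrArg Prod.fst (hT.inj h2)

theorem theta_inj (hT : Tor φ) {x : G} (hx : x ∈ NT φ) {θ θ' : A →* ℂˣ} (h : θ ^ kap φ x = θ' ^ kap φ x) : θ = θ' := by
  ext a
  obtain ⟨a', ha'⟩ := (pow_inj hT hx).2 a
  have ha'' : a' ^ kap φ x = a := ha'
  have h1 := DFunLike.congr_fun h a'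
  rw [MonoidHom.pow_apply, MonoidHom.pow_apply, ← map_pow, ← map_pow, ha''] at h1
  rw [h1]

theorem kap_mul (hT : Tor φ) {x x' : G} (hx : x ∈ NT φ) (hx' : x' ∈ NT φ) (θ : A →* ℂˣ) :
    θ ^ kap φ (x * x') = (θ ^ kap φ x') ^ kap φ x := by
  ext a
  have h1 : φ (a ^ kap φ (x * x'), 1) = φ ((a ^ kap φ x') ^ kap φ x, 1) := by
    rw [← kap_fst hT (mul_mem hx hx'), ← kap_fst hT hx, ← kap_fst hT hx']
    group
  have h2 : a ^ kap φ (x * x') = (a ^ kap φ x') ^ kap φ x := congrArg Prod.fst (hT.inj h1)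
  rw [MonoidHom.pow_apply, ← map_pow, h2, MonoidHom.pow_apply, MonoidHom.pow_apply, map_pow, map_pow]

theorem kap_range (hT : Tor φ) {x : G} (hx : x ∈ φ.range) (θ : A →* ℂˣ) : θ ^ kap φ x = θ := by
  ext a
  have hx' : x ∈ NT φ := range_le φ hx
  have h1 := kap_fst hT hx' a
  obtain ⟨y, rfl⟩ := hx
  have h3 : φ y * φ (a, 1) * (φ y)⁻¹ = φ (a, 1) := by
    rw [← map_mul, mul_comm, map_mul, mul_inv_cancel_right]
  rw [h3] at h1
  have h2 : a = a ^ kap φ (φ y) := congrArg Prod.fst (hT.inj h1)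
  rw [MonoidHom.pow_apply, ← map_pow, ← h2]

/-- **Semiregularity on the dual.** -/
theorem fix (hT : Tor φ) {x : G} (hx : x ∈ NT φ) {θ : A →* ℂˣ} (hθ : θ ≠ 1) (h : θ ^ kap φ x = θ) : x ∈ φ.range := by
  obtain ⟨a0, ha0⟩ : ∃ a0, θ a0 ≠ 1 := by
    by_contra hcon
    push Not at hcon
    exact hθ (MonoidHom.ext hcon)
  have ho : orderOf (θ a0) ≠ 1 := fun h1 => ha0 (orderOf_eq_one_iff.1 h1)
  obtain ⟨r, hr, hrθ⟩ := Nat.exists_prime_and_dvd ho
  have : Fact r.Prime := ⟨hr⟩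
  have hrA : r ∣ Nat.card A := hrθ.trans ((orderOf_map_dvd θ a0).trans (orderOf_dvd_natCard a0))
  obtain ⟨a, ha⟩ := exists_prime_orderOf_dvd_card' r hrA
  have h1 : a ^ kap φ x = a := by
    have h0 : θ a0 ^ kap φ x = θ a0 ^ 1 := by
      rw [pow_one, ← MonoidHom.pow_apply, h]
    have h2 : kap φ x ≡ 1 [MOD orderOf (θ a0)] := pow_eq_pow_iff_modEq.1 h0
    have h3 : kap φ x ≡ 1 [MOD orderOf a] := by rw [ha]; exact h2.of_dvd hrθ
    have h4 := pow_eq_pow_iff_modEq.2 h3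
    rw [pow_one] at h4
    exact h4
  have h2 := kap_fst hT hx a
  rw [h1] at h2
  refine hT.cent a 1 (fun h3 => ?_) x (mul_inv_eq_iff_eq_mul.1 h2)
  rw [h3, orderOf_one] at ha
  exact hr.one_lt.ne ha

/-- the elements of the normalizer -/
noncomputable def nset (φ : A × B →* G) : Finset G := univ.filter fun x => x ∈ NT φ

theorem mem_nset {x : G} : x ∈ nset φ ↔ x ∈ NT φ := by simp [nset]

theorem card_nset : (nset φ).card = Nat.card (NT φ) := by
  rw [nset, Nat.card_eq_fintype_card, Fintype.card_subtype]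

theorem card_range (hT : Tor φ) : (univ.filter fun x : G => x ∈ φ.range).card = Nat.card A * Nat.card B := by
  have h1 : Nat.card φ.range = Nat.card A * Nat.card B := by
    rw [← Nat.card_prod]
    exact (Nat.card_congr (MonoidHom.ofInjective hT.inj).toEquiv).symm
  rw [← h1, Nat.card_eq_fintype_card, Fintype.card_subtype]

/-- the fibers of the action on `θ` -/
theorem fiber_le (hT : Tor φ) {θ : A →* ℂˣ} (hθ : θ ≠ 1) (θ' : A →* ℂˣ) :
    ((nset φ).filter fun x => θ ^ kap φ x = θ').card ≤ Nat.card A * Nat.card B := by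
  rcases Finset.eq_empty_or_nonempty ((nset φ).filter fun x => θ ^ kap φ x = θ') with h0 | ⟨x0, h0⟩
  · rw [h0, Finset.card_empty]; exact Nat.zero_le _
  rw [Finset.mem_filter, mem_nset] at h0
  rw [← card_range hT]
  refine Finset.card_le_card_of_injOn (fun x => x0⁻¹ * x) ?_ ?_
  · intro x hx
    rw [Finset.mem_coe, Finset.mem_filter, mem_nset] at hx
    rw [Finset.mem_coe, Finset.mem_filter]
    refine ⟨Finset.mem_univ _, ?_⟩
    have hm : x0⁻¹ * x ∈ NT φ := mul_mem (inv_mem h0.1) hx.1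
    refine fix hT hm hθ (theta_inj hT h0.1 ?_)
    rw [← kap_mul hT h0.1 hm, mul_inv_cancel_left, hx.2, h0.2]
  · intro x _ x' _ h
    simpa using h

theorem le_fiber (hT : Tor φ) {θ : A →* ℂˣ} {x0 : G} (hx0 : x0 ∈ NT φ) :
    Nat.card A * Nat.card B ≤ ((nset φ).filter fun x => θ ^ kap φ x = θ ^ kap φ x0).card := by
  rw [← card_range hT]
  refine Finset.card_le_card_of_injOn (fun x => x0 * x) ?_ ?_
  · intro x hx
    rw [Finset.mem_coe, Finset.mem_filter] at hx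
    have hm : x ∈ NT φ := range_le φ hx.2
    rw [Finset.mem_coe, Finset.mem_filter, mem_nset]
    refine ⟨mul_mem hx0 hm, ?_⟩
    show θ ^ kap φ (x0 * x) = _
    rw [kap_mul hT hx0 hm, kap_range hT hx.2]
  · intro x _ x' _ h
    simpa using h

variable [Fintype (A →* ℂˣ)]

/-- the orbit of `θ` -/
noncomputable def orb (φ : A × B →* G) (θ : A →* ℂˣ) : Finset (A →* ℂˣ) := (nset φ).image fun x => θ ^ kap φ x

theorem mem_orb {θ θ' : A →* ℂˣ} : θ' ∈ orb φ θ ↔ ∃ x ∈ NT φ, θ ^ kap φ x = θ' := by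
  rw [orb, Finset.mem_image]
  simp only [mem_nset]

theorem self_mem_orb (hT : Tor φ) (θ : A →* ℂˣ) : θ ∈ orb φ θ :=
  mem_orb.2 ⟨1, one_mem _, kap_range hT (one_mem _) θ⟩

theorem orb_card_le (hT : Tor φ) {e : ℕ} (he : Nat.card (NT φ) = e * (Nat.card A * Nat.card B)) (θ : A →* ℂˣ) :
    (orb φ θ).card ≤ e := by
  have h1 : (nset φ).card = ∑ θ' ∈ orb φ θ, ((nset φ).filter fun x => θ ^ kap φ x = θ').card :=
    Finset.card_eq_sum_card_image _ _
  have h2 : ∑ θ' ∈ orb φ θ, Nat.card A * Nat.card B ≤ (nset φ).card := by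
    rw [h1]
    refine Finset.sum_le_sum fun θ' hθ' => ?_
    obtain ⟨x0, hx0, rfl⟩ := mem_orb.1 hθ'
    exact le_fiber hT hx0
  rw [Finset.sum_const, smul_eq_mul, card_nset, he] at h2
  have hAB : 0 < Nat.card A * Nat.card B := Nat.mul_pos Nat.card_pos Nat.card_pos
  exact Nat.le_of_mul_le_mul_right h2 hAB

/-- invariant nonnegative functions -/
theorem le_orb_sum (hT : Tor φ) {e : ℕ} (he : Nat.card (NT φ) = e * (Nat.card A * Nat.card B)) {θ : A →* ℂˣ}
    (hθ : θ ≠ 1) (f : (A →* ℂˣ) → ℤ) (hf0 : ∀ θ, 0 ≤ f θ) (hf : ∀ x ∈ NT φ, f (θ ^ kap φ x) = f θ) :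
    (e : ℤ) * f θ ≤ ∑ θ' ∈ orb φ θ, f θ' := by
  have h1 : ∑ x ∈ nset φ, f (θ ^ kap φ x) = ∑ θ' ∈ orb φ θ, ∑ x ∈ (nset φ).filter (fun x => θ ^ kap φ x = θ'), f (θ ^ kap φ x) := by
    refine (Finset.sum_fiberwise_of_maps_to (fun x hx => ?_) _).symm
    rw [orb, Finset.mem_image]; exact ⟨x, hx, rfl⟩
  have h2 : ∑ x ∈ nset φ, f (θ ^ kap φ x) = (e * (Nat.card A * Nat.card B) : ℕ) * f θ := by
    rw [Finset.sum_congr rfl fun x hx => hf x (mem_nset.1 hx), Finset.sum_const, card_nset, he]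
    simp
  have h3 : ∀ θ' ∈ orb φ θ, ∑ x ∈ (nset φ).filter (fun x => θ ^ kap φ x = θ'), f (θ ^ kap φ x) ≤
      (Nat.card A * Nat.card B : ℕ) * f θ' := by
    intro θ' _
    rw [Finset.sum_congr rfl fun x hx => by rw [(Finset.mem_filter.1 hx).2], Finset.sum_const, nsmul_eq_mul]
    refine mul_le_mul_of_nonneg_right ?_ (hf0 θ')
    exact_mod_cast fiber_le hT hθ θ'
  have h4 := Finset.sum_le_sum h3
  rw [← h1, h2, ← Finset.mul_sum] at h4
  have hAB : (0 : ℤ) < (Nat.card A * Nat.card B : ℕ) := by exact_mod_cast Nat.mul_pos Nat.card_pos Nat.card_pos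
  refine le_of_mul_le_mul_left ?_ hAB
  calc ((Nat.card A * Nat.card B : ℕ) : ℤ) * (e * f θ) = (e * (Nat.card A * Nat.card B) : ℕ) * f θ := by
        push_cast; ring
    _ ≤ _ := h4

theorem one_notMem_orb (hT : Tor φ) {θ : A →* ℂˣ} (hθ : θ ≠ 1) : (1 : A →* ℂˣ) ∉ orb φ θ := by
  intro h
  obtain ⟨x, hx, h1⟩ := mem_orb.1 h
  refine hθ (theta_inj hT hx ?_)
  rw [h1]
  ext a
  rw [MonoidHom.pow_apply, MonoidHom.one_apply, one_pow]

theorem orb_disjoint (hT : Tor φ) {θ θ' : A →* ℂˣ} (h : θ' ∉ orb φ θ) : Disjoint (orb φ θ) (orb φ θ') := by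
  rw [Finset.disjoint_left]
  intro η h1 h2
  obtain ⟨x, hx, h1⟩ := mem_orb.1 h1
  obtain ⟨y, hy, h2⟩ := mem_orb.1 h2
  refine h (mem_orb.2 ⟨y⁻¹ * x, mul_mem (inv_mem hy) hx, theta_inj hT hy ?_⟩)
  rw [← kap_mul hT hy (mul_mem (inv_mem hy) hx), mul_inv_cancel_left, h1, h2]

theorem e_lt (hT : Tor φ) {e : ℕ} (he : Nat.card (NT φ) = e * (Nat.card A * Nat.card B)) (hA : 1 < Nat.card A) :
    e < Nat.card A := by
  have hcard : Nat.card (A →* ℂˣ) = Nat.card A := CommGroup.card_monoidHom_of_hasEnoughRootsOfUnity A ℂ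
  have : Nontrivial (A →* ℂˣ) := by
    rw [← Finite.one_lt_card_iff_nontrivial, hcard]; exact hA
  obtain ⟨θ, hθ⟩ := exists_ne (1 : A →* ℂˣ)
  have h1 := le_orb_sum hT he hθ (fun _ => 1) (fun _ => by norm_num) (fun _ _ => rfl)
  rw [Finset.sum_const, mul_one] at h1
  have h2 : (orb φ θ).card < Nat.card A := by
    rw [← hcard, Nat.card_eq_fintype_card, ← Finset.card_univ]
    refine Finset.card_lt_card ⟨Finset.subset_univ _, fun h => one_notMem_orb hT hθ (h (Finset.mem_univ _))⟩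
  have h3 : (e : ℤ) ≤ (orb φ θ).card := by simpa using h1
  have h4 : e ≤ (orb φ θ).card := by exact_mod_cast h3
  omega

/-- two orbits exist -/
theorem exists_two (hT : Tor φ) {e : ℕ} (he : Nat.card (NT φ) = e * (Nat.card A * Nat.card B))
    (hA : e + 1 < Nat.card A) : ∃ θ θ' : A →* ℂˣ, θ ≠ 1 ∧ θ' ≠ 1 ∧ θ' ∉ orb φ θ := by
  have hcard : Nat.card (A →* ℂˣ) = Nat.card A := CommGroup.card_monoidHom_of_hasEnoughRootsOfUnity A ℂ
  have : Nontrivial (A →* ℂˣ) := by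
    rw [← Finite.one_lt_card_iff_nontrivial, hcard]; omega
  obtain ⟨θ, hθ⟩ := exists_ne (1 : A →* ℂˣ)
  have h1 : (insert 1 (orb φ θ)).card < (univ : Finset (A →* ℂˣ)).card := by
    rw [Finset.card_univ, ← Nat.card_eq_fintype_card, hcard]
    have := orb_card_le hT he θ
    have := Finset.card_insert_le (1 : A →* ℂˣ) (orb φ θ)
    omega
  obtain ⟨θ', -, h2⟩ := Finset.exists_mem_notMem_of_card_lt_card h1
  rw [Finset.mem_insert, not_or] at h2
  exact ⟨θ, θ', hθ, h2.1, h2.2⟩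

end Cfsg.Agent.H417.TorCol

private theorem dce_a1c0f9098a2b : _root_.True := by
  try have : _root_.True := by simp only [_root_.Cfsg.Agent.H417.TorCol.nset.eq_1]
  try have : _root_.True := by simp only [_root_.Cfsg.Agent.H417.TorCol.orb.eq_1]
  exact _root_.True.intro
end

-- part: H417/TorInt
section
prune_inst 0x3000712527000208001c0012620060b13100009000008000a16403020b454862a943a0014a200108104282c438350000000000200000000000000400011801a088824200b72ca10424000f812000580c00000000000000000000000000000000000000000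
set_option linter.all false
open scoped Cfsg.Agent.FastGrp

/-!
# An integer lemma and a counting lemma (helper417)
-/

set_option autoImplicit false

namespace Cfsg.Agent.H417.TorInt

open Finset

/-- **The integer lemma**: an integral vector of small variance is nearly constant. -/
theorem near {ι : Type*} [Fintype ι] (m : ι → ℤ) (e : ℕ) (t : ℕ) (ht : Fintype.card ι = t)
    (h : (t : ℤ) * ∑ i, m i ^ 2 - (∑ i, m i) ^ 2 ≤ e * t) (hte : 4 * e ^ 2 < t) :
    ∃ k : ℤ, ∑ i, (m i - k) ^ 2 ≤ e := by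
  set S := ∑ i, m i with hS
  have ht0 : (0 : ℤ) < t := by
    have : 0 < t := by omega
    exact_mod_cast this
  obtain ⟨k, hk1, hk2⟩ : ∃ k : ℤ, 2 * (S - k * t) ≤ t ∧ -(t : ℤ) ≤ 2 * (S - k * t) := by
    refine ⟨(2 * S + t) / (2 * t), ?_, ?_⟩
    · have h1 := Int.lt_ediv_add_one_mul_self (2 * S + t) (by linarith : (0 : ℤ) < 2 * t)
      linarith only [h1]
    · have h1 := Int.ediv_mul_le (2 * S + t) (by linarith : (2 * (t : ℤ)) ≠ 0)
      linarith
  refine ⟨k, ?_⟩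
  set x := ∑ i, (m i - k) ^ 2 with hx
  set y := ∑ i, (m i - k) with hy
  have hyS : y = S - k * t := by
    rw [hy, Finset.sum_sub_distrib, Finset.sum_const, Finset.card_univ, ht, nsmul_eq_mul]; ring
  have hxS : x = ∑ i, m i ^ 2 - 2 * k * S + t * k ^ 2 := by
    rw [hx, hS]
    have h1 : ∀ i, (m i - k) ^ 2 = m i ^ 2 - 2 * k * m i + k ^ 2 := fun i => by ring
    rw [Finset.sum_congr rfl fun i _ => h1 i, Finset.sum_add_distrib, Finset.sum_sub_distrib, ← Finset.mul_sum,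
      Finset.sum_const, Finset.card_univ, ht, nsmul_eq_mul]
  have hV : (t : ℤ) * x - y ^ 2 ≤ e * t := by
    rw [hxS, hyS]
    linarith only [h]
  have hyx1 : y ≤ x := by
    rw [hy, hx]
    refine Finset.sum_le_sum fun i _ => ?_
    linarith only [Int.le_self_sq (m i - k)]
  have hyx2 : -y ≤ x := by
    rw [hy, hx, ← Finset.sum_neg_distrib]
    refine Finset.sum_le_sum fun i _ => ?_
    have := Int.le_self_sq (-(m i - k))
    linarith only [this]
  by_contra hcon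
  push Not at hcon
  have hxe : (e : ℤ) + 1 ≤ x := hcon
  -- `z = |y|`
  have hz : |y| ≤ x := abs_le.2 ⟨by linarith only [hyx2], hyx1⟩
  have hz2 : 2 * |y| ≤ t := by
    rw [← hyS] at hk1 hk2
    rcases abs_cases y with ⟨h1, _⟩ | ⟨h1, _⟩ <;> rw [h1] <;> linarith only [hk1, hk2]
  have hz0 : 0 ≤ |y| := abs_nonneg y
  have hzz : |y| ^ 2 = y ^ 2 := sq_abs y
  have h1 : (t : ℤ) * (x - e) ≤ |y| ^ 2 := by rw [hzz]; linarith only [hV]
  have h2 : 2 * (x - e) ≤ |y| := by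
    have h3 : 2 * |y| ^ 2 ≤ t * |y| := by nlinarith only [hz2, hz0]
    have h4 : (t : ℤ) * (2 * (x - e)) ≤ t * |y| := by linarith only [hV, hzz, h3]
    exact le_of_mul_le_mul_left h4 ht0
  have h3 : |y| ≤ 2 * e := by linarith only [hz, h2]
  have h4 : |y| ^ 2 ≤ 4 * e ^ 2 := by nlinarith only [hcon, hz, h2]
  have h5 : (t : ℤ) ≤ t * (x - e) := by nlinarith only [hcon]
  have h6 : (4 : ℤ) * e ^ 2 < t := by exact_mod_cast hte
  linarith only [hte, hV, hzz, h4, h5]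

/-- the sum is bounded by the sum of squares -/
theorem abs_sum_le {ι : Type*} [Fintype ι] (δ : ι → ℤ) : |∑ i, δ i| ≤ ∑ i, δ i ^ 2 := by
  refine (Finset.abs_sum_le_sum_abs _ _).trans (Finset.sum_le_sum fun i _ => ?_)
  rw [← sq_abs]
  exact Int.le_self_sq _

/-- **Counting**: a finite group acting with exactly one fixed point, semiregularly off it. -/
theorem card_mod {A X : Type*} [Group A] [Finite A] [Finite X] [MulAction A X] (x0 : X)
    (h0 : ∀ a : A, a • x0 = x0) (h : ∀ (a : A) (x : X), a ≠ 1 → a • x = x → x = x0) :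
    Nat.card X ≡ 1 [MOD Nat.card A] := by
  classical
  have := Fintype.ofFinite A
  have := Fintype.ofFinite X
  have h1 := MulAction.sum_card_fixedBy_eq_card_orbits_mul_card_group A X
  have h2 : ∀ a : A, Fintype.card (MulAction.fixedBy X a) = if a = 1 then Nat.card X else 1 := by
    intro a
    split_ifs with ha
    · subst ha
      rw [Nat.card_eq_fintype_card]
      refine Fintype.card_congr (Equiv.subtypeUnivEquiv fun x => ?_)
      exact one_smul A x
    · rw [Fintype.card_eq_one_iff]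
      exact ⟨⟨x0, h0 a⟩, fun y => Subtype.ext (h a y.1 ha y.2)⟩
  rw [Finset.sum_congr rfl fun a _ => h2 a] at h1
  rw [← Finset.add_sum_erase Finset.univ _ (Finset.mem_univ (1 : A)), if_pos rfl,
    Finset.sum_congr rfl (fun a ha => if_neg (Finset.ne_of_mem_erase ha)), Finset.sum_const, Finset.card_erase_of_mem (Finset.mem_univ _),
    Finset.card_univ, smul_eq_mul, mul_one] at h1
  have hA : 0 < Fintype.card A := Fintype.card_pos
  have h3 : Nat.card X + Fintype.card A = 1 + Fintype.card (Quotient (MulAction.orbitRel A X)) * Fintype.card A := by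
    omega
  rw [Nat.card_eq_fintype_card (α := A)]
  unfold Nat.ModEq
  have h4 : (Nat.card X + Fintype.card A) % Fintype.card A = (1 + Fintype.card (Quotient (MulAction.orbitRel A X)) * Fintype.card A) % Fintype.card A := by
    rw [h3]
  rwa [Nat.add_mod_right, Nat.add_mul_mod_self_right] at h4

end Cfsg.Agent.H417.TorInt
end

-- part: H417/TorMain
section
prune_inst 0x10003104040002080018000040001c42a2000000004b8000802002000781080000010620002001180000084400300048110000400200000000000000011800808800000000000100000009002004400000000000000000000000000000000000000000000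
set_option linter.all false
open scoped Cfsg.Agent.FastGrp

/-!
# Self-centralizing cyclic tori with central second factor: the character relations (helper417)

* `col_self`, `col_ne` : the column relations
* `delta` : nearly constant multiplicities
* `index_mod`, `count` : `|G| / |T| ≡ |N : T|` modulo `|A|`
-/

set_option autoImplicit false
set_option linter.unusedSectionVars false

namespace Cfsg.Agent.H417.TorMain

open Cfsg Finset Cfsg.Agent.Characters.Core Cfsg.Agent.Characters.Linear Cfsg.Agent.H417.TorDual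
  Cfsg.Agent.H417.TorRow Cfsg.Agent.H417.TorCol Cfsg.Agent.H417.TorInt
open scoped ComplexConjugate Classical BigOperators

universe u v w

variable {G : Type u} [Group G] {A : Type v} {B : Type w} [CommGroup A] [CommGroup B]
variable {φ : A × B →* G} [Fintype G] [Fintype A] [Fintype B]

/-- the central character -/
theorem exists_cen (hB : CenB φ) {χ : G → ℂ} (hχ : IsIrrCharacter G χ) :
    ∃ μ0 : B →* ℂˣ, (∀ b, χ (φ (1, b)) = χ 1 * ((μ0 b : ℂˣ) : ℂ)) ∧ ∀ θ μ, μ ≠ μ0 → mul φ χ θ μ = 0 := by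
  obtain ⟨c, hc, -⟩ := Cfsg.Agent.CharactersDeep.Extraspecial.exists_central_hom hχ
  let i : B →* Subgroup.center G :=
    { toFun := fun b => ⟨φ (1, b), Subgroup.mem_center_iff.2 fun g => hB b g⟩
      map_one' := Subtype.ext (by simp [show ((1 : A), (1 : B)) = 1 from rfl])
      map_mul' := fun b b' => Subtype.ext (by
        show φ (1, b * b') = φ (1, b) * φ (1, b')
        rw [← map_mul]; simp) }
  refine ⟨c.comp i, fun b => ?_, fun θ μ hμ => ?_⟩
  · have := hc 1 (i b)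
    rw [one_mul] at this
    exact this
  · have h1 : ((mul φ χ θ μ : ℤ) : ℂ) = 0 := by
      rw [← mul_spec (isIrr_isCharacter hχ), hat_def, Fintype.sum_prod_type]
      have h2 : ∀ a, ∑ b, χ (φ (a, b)) * (((θ.coprod μ) (a, b)⁻¹ : ℂˣ) : ℂ) = 0 := by
        intro a
        have h3 : ∀ b, χ (φ (a, b)) * (((θ.coprod μ) (a, b)⁻¹ : ℂˣ) : ℂ) =
            (χ (φ (a, 1)) * ((θ a⁻¹ : ℂˣ) : ℂ)) * ((((c.comp i) b : ℂˣ) : ℂ) * conj ((μ b : ℂˣ) : ℂ)) := by
          intro b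
          have h4 : φ (a, b) = φ (a, 1) * (i b : G) := by
            show φ (a, b) = φ (a, 1) * φ (1, b)
            rw [← map_mul]; simp
          rw [h4, hc, conj_apply, MonoidHom.coprod_apply, Units.val_mul]
          show χ (φ (a, 1)) * ((c (i b) : ℂˣ) : ℂ) * (((θ a⁻¹ : ℂˣ) : ℂ) * ((μ b⁻¹ : ℂˣ) : ℂ)) =
            (χ (φ (a, 1)) * ((θ a⁻¹ : ℂˣ) : ℂ)) * (((c (i b) : ℂˣ) : ℂ) * ((μ b⁻¹ : ℂˣ) : ℂ))
          ring
        rw [Finset.sum_congr rfl fun b _ => h3 b, ← Finset.mul_sum, sum_mul_conj, if_neg (Ne.symm hμ), mul_zero]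
      rw [Finset.sum_congr rfl fun a _ => h2 a, Finset.sum_const_zero, mul_zero]
    exact_mod_cast h1

/-- the difference of multiplicities -/
noncomputable def dif (φ : A × B →* G) (χ : G → ℂ) (θ : A →* ℂˣ) (μ : B →* ℂˣ) : ℤ := mul φ χ θ μ - mul φ χ 1 μ

/-- the test function -/
noncomputable def tst (θ : A →* ℂˣ) (μ : B →* ℂˣ) (y : A × B) : ℂ :=
  (((θ y.1 : ℂˣ) : ℂ) - 1) * ((μ y.2 : ℂˣ) : ℂ)

theorem sum_tst {χ : G → ℂ} (hχ : IsCharacter G χ) (θ : A →* ℂˣ) (μ : B →* ℂˣ) :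
    ∑ y, χ (φ y) * conj (tst θ μ y) = ((Nat.card A * Nat.card B : ℕ) : ℂ) * (dif φ χ θ μ : ℂ) := by
  have h0 : ((Nat.card (A × B) : ℕ) : ℂ) ≠ 0 := card_ne_zero_complex
  rw [dif, Int.cast_sub, ← mul_spec hχ, ← mul_spec hχ, hat_def, hat_def, ← mul_sub, ← Nat.card_prod,
    mul_inv_cancel_left₀ h0, ← Finset.sum_sub_distrib]
  refine Finset.sum_congr rfl fun y _ => ?_
  rw [tst, map_mul, map_sub, map_one, conj_apply, conj_apply, MonoidHom.coprod_apply, MonoidHom.coprod_apply,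
    Units.val_mul, Units.val_mul, MonoidHom.one_apply, Units.val_one]
  simp only [Prod.fst_inv, Prod.snd_inv]
  ring

theorem tst_pow (hT : Tor φ) (hB : CenB φ) {x : G} (hx : x ∈ NT φ) (θ : A →* ℂˣ) (μ : B →* ℂˣ) (y : A × B) :
    tst θ μ (y ^ kap φ x) = tst (θ ^ kap φ x) μ y := by
  rw [tst, tst, Prod.pow_fst, Prod.pow_snd, kap_snd hT hB hx, map_pow, MonoidHom.pow_apply]

theorem sum_tst_tst {θ' η : A →* ℂˣ} (h1 : θ' ≠ 1) (h2 : η ≠ 1) (μ : B →* ℂˣ) :
    ∑ y, tst θ' μ y * conj (tst η μ y) =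
      ((Nat.card A * Nat.card B : ℕ) : ℂ) * ((if η = θ' then 1 else 0) + 1) := by
  rw [Fintype.sum_prod_type]
  have h3 : ∀ a, ∑ b, tst θ' μ (a, b) * conj (tst η μ (a, b)) =
      (Nat.card B : ℂ) * (((θ' a : ℂˣ) : ℂ) * conj ((η a : ℂˣ) : ℂ) - ((θ' a : ℂˣ) : ℂ) - ((η a⁻¹ : ℂˣ) : ℂ) + 1) := by
    intro a
    have h4 : ∀ b, tst θ' μ (a, b) * conj (tst η μ (a, b)) =
        (((θ' a : ℂˣ) : ℂ) * conj ((η a : ℂˣ) : ℂ) - ((θ' a : ℂˣ) : ℂ) - ((η a⁻¹ : ℂˣ) : ℂ) + 1) *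
          (((μ b : ℂˣ) : ℂ) * conj ((μ b : ℂˣ) : ℂ)) := by
      intro b
      rw [tst, tst, map_mul, map_sub, map_one, ← conj_apply]
      ring
    rw [Finset.sum_congr rfl fun b _ => h4 b, ← Finset.mul_sum, sum_mul_conj, if_pos rfl, mul_comm]
  rw [Finset.sum_congr rfl fun a _ => h3 a, ← Finset.mul_sum]
  have h5 : ∑ a, (((θ' a : ℂˣ) : ℂ) * conj ((η a : ℂˣ) : ℂ) - ((θ' a : ℂˣ) : ℂ) - ((η a⁻¹ : ℂˣ) : ℂ) + 1) =
      (Nat.card A : ℂ) * ((if η = θ' then 1 else 0) + 1) := by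
    rw [Finset.sum_add_distrib, Finset.sum_sub_distrib, Finset.sum_sub_distrib, sum_mul_conj, TorDual.sum_apply, if_neg h1]
    have h6 : ∑ a, ((η a⁻¹ : ℂˣ) : ℂ) = 0 := by
      rw [← Equiv.sum_comp (Equiv.inv A)]
      simp only [Equiv.inv_apply, inv_inv]
      rw [TorDual.sum_apply, if_neg h2]
    rw [h6, Finset.sum_const, Finset.card_univ, nsmul_eq_mul, mul_one, Nat.card_eq_fintype_card]
    by_cases h : η = θ'
    · rw [if_pos h.symm, if_pos h]; ring
    · rw [if_neg (Ne.symm h), if_neg h]; ring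
  rw [h5]
  push_cast
  ring

theorem theta_pow_ne (hT : Tor φ) {x : G} (hx : x ∈ NT φ) {θ : A →* ℂˣ} (hθ : θ ≠ 1) : θ ^ kap φ x ≠ 1 := by
  intro h
  refine hθ (theta_inj hT hx ?_)
  rw [h]
  ext a
  rw [MonoidHom.pow_apply, MonoidHom.one_apply, one_pow]

theorem col (hT : Tor φ) (hB : CenB φ) [Fintype (IrrCharacter G)] {θ θ' : A →* ℂˣ} (hθ : θ ≠ 1) (hθ' : θ' ≠ 1)
    (μ : B →* ℂˣ) :
    ((Nat.card A * Nat.card B : ℕ) : ℤ) * ∑ χ : IrrCharacter G, dif φ χ θ μ * dif φ χ θ' μ =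
      Nat.card (NT φ) + ((nset φ).filter fun x => θ ^ kap φ x = θ').card := by
  have h1 := hT.col_sum (tst θ μ) (tst θ' μ) (fun y hy => by rw [tst, hy]; simp) (fun y hy => by rw [tst, hy]; simp)
  have h2 : ∀ χ : IrrCharacter G, (∑ y, (χ : G → ℂ) (φ y) * conj (tst θ μ y)) *
      conj (∑ y, (χ : G → ℂ) (φ y) * conj (tst θ' μ y)) =
      ((Nat.card A * Nat.card B : ℕ) : ℂ) ^ 2 * ((dif φ χ θ μ * dif φ χ θ' μ : ℤ) : ℂ) := by
    intro χ
    have hχ := isIrr_isCharacter χ.2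
    rw [sum_tst hχ, sum_tst hχ, map_mul]
    have h3 : conj ((dif φ χ θ' μ : ℤ) : ℂ) = ((dif φ χ θ' μ : ℤ) : ℂ) := map_intCast _ _
    have h4 : conj ((Nat.card A * Nat.card B : ℕ) : ℂ) = ((Nat.card A * Nat.card B : ℕ) : ℂ) := map_natCast _ _
    rw [h3, h4]
    push_cast
    ring
  rw [Finset.sum_congr rfl fun χ _ => h2 χ, ← Finset.mul_sum] at h1
  have h3 : ∑ x ∈ univ.filter (fun x => x ∈ NT φ), ∑ y, tst θ' μ y * conj (tst θ μ (y ^ kap φ x)) =
      ∑ x ∈ nset φ, ((Nat.card A * Nat.card B : ℕ) : ℂ) * ((if θ ^ kap φ x = θ' then 1 else 0) + 1) := by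
    refine Finset.sum_congr rfl fun x hx => ?_
    have hx' : x ∈ NT φ := (Finset.mem_filter.1 hx).2
    rw [Finset.sum_congr rfl fun y _ => by rw [tst_pow hT hB hx']]
    exact sum_tst_tst hθ' (theta_pow_ne hT hx' hθ) μ
  rw [h3, ← Finset.mul_sum, Finset.sum_add_distrib, Finset.sum_boole, Finset.sum_const, card_nset, nsmul_eq_mul,
    mul_one, sq, mul_assoc] at h1
  have h0 : ((Nat.card A * Nat.card B : ℕ) : ℂ) ≠ 0 := by
    rw [← Nat.card_prod]; exact card_ne_zero_complex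
  have h4 := mul_left_cancel₀ h0 h1
  rw [add_comm] at h4
  exact_mod_cast h4

theorem col_self (hT : Tor φ) (hB : CenB φ) [Fintype (IrrCharacter G)] {e : ℕ}
    (he : Nat.card (NT φ) = e * (Nat.card A * Nat.card B)) {θ : A →* ℂˣ} (hθ : θ ≠ 1) (μ : B →* ℂˣ) :
    ∑ χ : IrrCharacter G, dif φ χ θ μ ^ 2 = e + 1 := by
  have h1 := col hT hB hθ hθ μ
  have h2 : ((nset φ).filter fun x => θ ^ kap φ x = θ).card = Nat.card A * Nat.card B := by
    refine le_antisymm (fiber_le hT hθ θ) ?_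
    have := le_fiber hT (θ := θ) (one_mem (NT φ))
    rwa [kap_range hT (one_mem _)] at this
  rw [h2, he] at h1
  have hAB : ((Nat.card A * Nat.card B : ℕ) : ℤ) ≠ 0 := by
    have : 0 < Nat.card A * Nat.card B := Nat.mul_pos Nat.card_pos Nat.card_pos
    exact_mod_cast this.ne'
  refine mul_left_cancel₀ hAB ?_
  simp only [sq]
  rw [h1]
  push_cast
  ring

theorem col_ne (hT : Tor φ) (hB : CenB φ) [Fintype (IrrCharacter G)] [Fintype (A →* ℂˣ)] {e : ℕ}
    (he : Nat.card (NT φ) = e * (Nat.card A * Nat.card B)) {θ θ' : A →* ℂˣ} (hθ : θ ≠ 1) (hθ' : θ' ≠ 1)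
    (h : θ' ∉ orb φ θ) (μ : B →* ℂˣ) :
    ∑ χ : IrrCharacter G, dif φ χ θ μ * dif φ χ θ' μ = e := by
  have h1 := col hT hB hθ hθ' μ
  have h2 : ((nset φ).filter fun x => θ ^ kap φ x = θ').card = 0 := by
    rw [Finset.card_eq_zero, Finset.filter_eq_empty_iff]
    intro x hx hx'
    exact h (mem_orb.2 ⟨x, mem_nset.1 hx, hx'⟩)
  rw [h2, he] at h1
  have hAB : ((Nat.card A * Nat.card B : ℕ) : ℤ) ≠ 0 := by
    have : 0 < Nat.card A * Nat.card B := Nat.mul_pos Nat.card_pos Nat.card_pos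
    exact_mod_cast this.ne'
  refine mul_left_cancel₀ hAB ?_
  rw [h1]
  push_cast
  ring

/-- the trivial character -/
theorem mul_one_char (θ : A →* ℂˣ) : mul φ (1 : G → ℂ) θ 1 = if θ = 1 then 1 else 0 := by
  have h0 : ((Nat.card (A × B) : ℕ) : ℂ) ≠ 0 := card_ne_zero_complex
  have h1 : ((mul φ (1 : G → ℂ) θ 1 : ℤ) : ℂ) = if θ = 1 then 1 else 0 := by
    rw [← mul_spec isCharacter_one, hat_def]
    have h2 : ∑ y : A × B, (1 : G → ℂ) (φ y) * (((θ.coprod 1) y⁻¹ : ℂˣ) : ℂ) =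
        ∑ y : A × B, (((θ.coprod (1 : B →* ℂˣ)) y : ℂˣ) : ℂ) := by
      rw [← Equiv.sum_comp (Equiv.inv (A × B))]
      refine Finset.sum_congr rfl fun y _ => ?_
      simp
    rw [h2, TorDual.sum_apply]
    by_cases h : θ = 1
    · rw [if_pos h, if_pos (by rw [h]; ext y; simp [MonoidHom.coprod_apply])]
      exact inv_mul_cancel₀ h0
    · rw [if_neg h, if_neg, mul_zero]
      intro h3
      apply h
      ext a
      have := DFunLike.congr_fun h3 (a, 1)
      rw [MonoidHom.coprod_apply] at this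
      simpa using congrArg Units.val this
  split_ifs with h
  · rw [if_pos h] at h1; exact_mod_cast h1
  · rw [if_neg h] at h1; exact_mod_cast h1

theorem dif_one_char {θ : A →* ℂˣ} (hθ : θ ≠ 1) : dif φ (1 : G → ℂ) θ 1 = -1 := by
  rw [dif, mul_one_char, mul_one_char, if_neg hθ, if_pos rfl]
  ring

variable [Fintype (A →* ℂˣ)]

/-- **Nearly constant multiplicities.** -/
theorem delta (hT : Tor φ) {e : ℕ} (he : Nat.card (NT φ) = e * (Nat.card A * Nat.card B))
    {χ : G → ℂ} (hχ : IsIrrCharacter G χ) {μ0 : B →* ℂˣ} (hμ : ∀ θ μ, μ ≠ μ0 → mul φ χ θ μ = 0)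
    (ht : 4 * e ^ 2 < Nat.card A) :
    ∃ k : ℤ, ∑ θ, (mul φ χ θ μ0 - k) ^ 2 ≤ e ∧
      χ 1 = ((k * Nat.card A + ∑ θ, (mul φ χ θ μ0 - k) : ℤ) : ℂ) := by
  have := Fintype.ofFinite (B →* ℂˣ)
  have hcard : Fintype.card (A →* ℂˣ) = Nat.card A := by
    rw [← Nat.card_eq_fintype_card]; exact CommGroup.card_monoidHom_of_hasEnoughRootsOfUnity A ℂ
  have h1 := hT.row hχ he
  rw [Finset.sum_eq_single μ0 (fun μ _ h => by
      rw [Finset.sum_congr rfl fun θ _ => by rw [hμ θ μ h]]; simp) (fun h => absurd (Finset.mem_univ _) h),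
    Finset.sum_eq_single μ0 (fun μ _ h => by
      rw [Finset.sum_congr rfl fun θ _ => hμ θ μ h]; simp) (fun h => absurd (Finset.mem_univ _) h)] at h1
  obtain ⟨k, hk⟩ := near (fun θ : A →* ℂˣ => mul φ χ θ μ0) e (Nat.card A) hcard h1 ht
  refine ⟨k, hk, ?_⟩
  rw [degree_eq (φ := φ) (isIrr_isCharacter hχ), Finset.sum_eq_single μ0 (fun μ _ h => by
      rw [Finset.sum_congr rfl fun θ _ => hμ θ μ h]; simp) (fun h => absurd (Finset.mem_univ _) h)]
  congr 1
  rw [Finset.sum_sub_distrib, Finset.sum_const, Finset.card_univ, hcard]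
  simp
  ring

/-! ### The index of the normalizer -/

theorem index_mod (hT : Tor φ) (hcop : Nat.Coprime (Nat.card A) (Nat.card B)) :
    Nat.card (G ⧸ NT φ) ≡ 1 [MOD Nat.card A] := by
  let _i : MulAction A (G ⧸ NT φ) := MulAction.compHom (G ⧸ NT φ) (φ.comp (MonoidHom.inl A B))
  have hact : ∀ (a : A) (g : G), a • (g : G ⧸ NT φ) = ((φ (a, 1) * g : G) : G ⧸ NT φ) := fun a g => rfl
  refine card_mod ((1 : G) : G ⧸ NT φ) (fun a => ?_) fun a x ha hx => ?_
  · rw [hact, mul_one, eq_comm, QuotientGroup.eq, inv_one, one_mul]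
    exact range_le φ ⟨_, rfl⟩
  · obtain ⟨g, rfl⟩ := QuotientGroup.mk_surjective x
    have ho : orderOf a ≠ 1 := fun h1 => ha (orderOf_eq_one_iff.1 h1)
    obtain ⟨r, hr, n, hn⟩ := Nat.exists_prime_and_dvd ho
    have : Fact r.Prime := ⟨hr⟩
    set a' := a ^ n with ha'
    have hra : orderOf a' = r := by
      have hn0 : n ≠ 0 := by
        rintro rfl
        rw [mul_zero] at hn
        exact (orderOf_pos a).ne' hn
      rw [ha', orderOf_pow_of_dvd hn0 ⟨r, by rw [hn, mul_comm]⟩, hn]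
      exact Nat.mul_div_cancel _ (Nat.pos_of_ne_zero hn0)
    have ha1 : a' ≠ 1 := by
      intro h; rw [h, orderOf_one] at hra; exact hr.one_lt.ne hra
    have hx' : a' • (g : G ⧸ NT φ) = g := by
      rw [ha']
      clear_value a'
      clear hra ha1 ha'
      clear hn
      induction n with
      | zero => rw [pow_zero, one_smul]
      | succ n ih => rw [pow_succ, mul_smul, hx, ih]
    rw [hact, eq_comm, QuotientGroup.eq] at hx'
    -- `y = g⁻¹ φ(a') g ∈ N`
    set y := g⁻¹ * (φ (a', 1) * g) with hy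
    have hyr : y ^ r = 1 := by
      have h1 : y ^ r = g⁻¹ * φ (a', 1) ^ r * g := by
        have h2 : y = g⁻¹ * φ (a', 1) * (g⁻¹)⁻¹ := by rw [hy]; group
        rw [h2, conj_pow, inv_inv]
      rw [h1, ← map_pow]
      have h2 : ((a', 1) : A × B) ^ r = 1 := by
        rw [← hra]; ext <;> simp [pow_orderOf_eq_one]
      rw [h2, map_one]
      group
    have hyT : y ∈ φ.range := by
      -- the exponent of `y` is `1` modulo `r`
      have h1 : ∀ j : ℕ, y ^ j * φ (a', 1) * (y ^ j)⁻¹ = φ (a' ^ (kap φ y ^ j), 1) := by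
        intro j
        induction j with
        | zero => simp
        | succ j ih =>
          have h2 : y ^ (j + 1) * φ (a', 1) * (y ^ (j + 1))⁻¹ = y * (y ^ j * φ (a', 1) * (y ^ j)⁻¹) * y⁻¹ := by
            rw [pow_succ']; group
          rw [h2, ih, kap_fst hT hx', ← pow_mul, pow_succ]
      have h2 := h1 r
      rw [hyr, one_mul, inv_one, mul_one] at h2
      have h3 : a' = a' ^ (kap φ y ^ r) := congrArg Prod.fst (hT.inj h2)
      have h4 : a' ^ (kap φ y ^ r) = a' ^ kap φ y := by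
        rw [pow_eq_pow_iff_modEq, hra, ← ZMod.natCast_eq_natCast_iff, Nat.cast_pow, ZMod.pow_card]
      rw [h4] at h3
      have h5 := kap_fst hT hx' a'
      rw [← h3] at h5
      exact hT.cent a' 1 ha1 y (mul_inv_eq_iff_eq_mul.1 h5)
    obtain ⟨⟨c, b⟩, hcb⟩ := hyT
    have h6 : ((c, b) : A × B) ^ r = 1 := hT.inj (by rw [map_pow, hcb, hyr, map_one])
    have hb : b = 1 := by
      have h7 : b ^ r = 1 := congrArg Prod.snd h6
      have h8 : orderOf b ∣ r := orderOf_dvd_of_pow_eq_one h7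
      rcases (Nat.dvd_prime hr).1 h8 with h9 | h9
      · exact orderOf_eq_one_iff.1 h9
      · exfalso
        have h10 : r ∣ Nat.card B := h9 ▸ orderOf_dvd_natCard b
        have h11 : r ∣ Nat.card A := hra ▸ orderOf_dvd_natCard a'
        have h12 := Nat.dvd_gcd h11 h10
        rw [hcop] at h12
        exact hr.one_lt.ne' (Nat.dvd_one.1 h12)
    have h7 : g ∈ NT φ := by
      refine hT.mem_NT (a := a') (b := 1) (a' := c) (b' := b) ha1 ?_
      rw [hcb, hy]
      group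
    rw [QuotientGroup.eq, mul_one]
    exact inv_mem h7

theorem count (hT : Tor φ) (hcop : Nat.Coprime (Nat.card A) (Nat.card B)) {e c : ℕ}
    (he : Nat.card (NT φ) = e * (Nat.card A * Nat.card B)) (hc : Nat.card G = c * (Nat.card A * Nat.card B)) :
    c ≡ e [MOD Nat.card A] := by
  have h1 := index_mod hT hcop
  have h2 := Subgroup.card_eq_card_quotient_mul_card_subgroup (NT φ)
  rw [he, hc] at h2
  have h3 : c = Nat.card (G ⧸ NT φ) * e := by
    refine Nat.eq_of_mul_eq_mul_right (Nat.mul_pos (Nat.card_pos (α := A)) (Nat.card_pos (α := B))) ?_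
    rw [h2, mul_assoc]
  rw [h3]
  simpa using h1.mul_right e

theorem exists_e (hT : Tor φ) : ∃ e : ℕ, Nat.card (NT φ) = e * (Nat.card A * Nat.card B) := by
  have h1 : Nat.card φ.range = Nat.card A * Nat.card B := by
    rw [← Nat.card_prod]
    exact (Nat.card_congr (MonoidHom.ofInjective hT.inj).toEquiv).symm
  have h2 := Subgroup.card_dvd_of_le (range_le φ)
  rw [h1] at h2
  obtain ⟨e, he⟩ := h2
  exact ⟨e, by rw [he, mul_comm]⟩

end Cfsg.Agent.H417.TorMain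

private theorem dce_52459548e2cf : _root_.True := by
  try have : _root_.True := by simp only [_root_.Cfsg.Agent.H417.TorMain.tst.eq_1]
  try have : _root_.True := by simp only [_root_.Cfsg.Agent.H417.TorMain.dif.eq_1]
  exact _root_.True.intro
end

-- part: H417/TorFalse
section
prune_inst 0x3000612524000208000000122200602020000090004000006064000409410062894020000a00001810068a80100100000000007000000000000000000000000088000000b1180c04040009812004080c00000000000000000000000000000000000000000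
set_option linter.all false
open scoped Cfsg.Agent.FastGrp

/-!
# Central extensions with degrees `ℓ ψ(1)`: two contradictions (helper417)
-/

set_option autoImplicit false
set_option linter.unusedSectionVars false

namespace Cfsg.Agent.H417.TorFalse

open Cfsg Finset Cfsg.Agent.Characters.Core Cfsg.Agent.Characters.Linear Cfsg.Agent.H417.TorDual
  Cfsg.Agent.H417.TorRow Cfsg.Agent.H417.TorCol Cfsg.Agent.H417.TorInt Cfsg.Agent.H417.TorMain
open scoped ComplexConjugate Classical BigOperators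

universe u v w

variable {G : Type u} [Group G] {A : Type v} {B : Type w} [CommGroup A] [CommGroup B]
variable {φ : A × B →* G} [Fintype G] [Fintype A] [Fintype B] [Fintype (A →* ℂˣ)]

/-- the two types of invariant vectors of small norm -/
theorem types (hT : Tor φ) {e : ℕ} (he : Nat.card (NT φ) = e * (Nat.card A * Nat.card B)) (δ : (A →* ℂˣ) → ℤ)
    (hinv : ∀ θ, ∀ x ∈ NT φ, δ (θ ^ kap φ x) = δ θ) (hδ : ∑ θ, δ θ ^ 2 ≤ e) {θ : A →* ℂˣ} (hθ : θ ≠ 1)
    (h0 : δ θ ≠ 0) : (∑ θ, δ θ = e ∨ ∑ θ, δ θ = -e) ∧ ∀ η, η ∉ orb φ θ → δ η = 0 := by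
  have h1 := le_orb_sum hT he hθ (fun η => δ η ^ 2) (fun η => sq_nonneg _) (fun x hx => by
    show δ (θ ^ kap φ x) ^ 2 = δ θ ^ 2
    rw [hinv θ x hx])
  have h2 : ∑ η ∈ orb φ θ, δ η ^ 2 + ∑ η ∈ univ \ orb φ θ, δ η ^ 2 = ∑ η, δ η ^ 2 := by
    rw [add_comm]; exact Finset.sum_sdiff (Finset.subset_univ _)
  have h3 : 0 ≤ ∑ η ∈ univ \ orb φ θ, δ η ^ 2 := Finset.sum_nonneg fun η _ => sq_nonneg _
  have h4 : 1 ≤ δ θ ^ 2 := by
    have := Int.one_le_abs h0
    rw [← sq_abs]; nlinarith only [this]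
  have he0 : (0 : ℤ) < e := by
    have h5 : 0 < Nat.card (NT φ) := Nat.card_pos
    rw [he] at h5
    have : 0 < e := Nat.pos_of_ne_zero (by rintro rfl; simp at h5)
    exact_mod_cast this
  have h5 : δ θ ^ 2 = 1 := by nlinarith only [hδ, h1, h2, h3, h4, he0]
  have h6 : ∑ η ∈ orb φ θ, δ η ^ 2 = e := by
    have h1' : (e : ℤ) * δ θ ^ 2 ≤ ∑ η ∈ orb φ θ, δ η ^ 2 := h1
    nlinarith only [hδ, h1, h2, h3, h4]
  have h7 : ∑ η ∈ univ \ orb φ θ, δ η ^ 2 = 0 := by linarith only [hδ, h2, h3, h6]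
  have h8 : ∀ η, η ∉ orb φ θ → δ η = 0 := by
    intro η hη
    have h9 := (Finset.sum_eq_zero_iff_of_nonneg (fun η _ => sq_nonneg (δ η))).1 h7 η
      (Finset.mem_sdiff.2 ⟨Finset.mem_univ _, hη⟩)
    exact pow_eq_zero_iff (two_ne_zero) |>.1 h9
  refine ⟨?_, h8⟩
  have h9 : ∀ η ∈ orb φ θ, δ η = δ θ := by
    intro η hη
    obtain ⟨x, hx, rfl⟩ := mem_orb.1 hη
    exact hinv θ x hx
  have h10 : ∑ η, δ η = (orb φ θ).card * δ θ := by
    rw [← Finset.sum_subset (Finset.subset_univ (orb φ θ)) fun η _ hη => h8 η hη, Finset.sum_congr rfl h9,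
      Finset.sum_const, nsmul_eq_mul]
  have h11 : ((orb φ θ).card : ℤ) = e := by
    rw [← h6, Finset.sum_congr rfl fun η hη => by rw [h9 η hη, h5], Finset.sum_const, nsmul_eq_mul, mul_one]
  rw [h10, h11]
  have h12 : (δ θ - 1) * (δ θ + 1) = 0 := by linear_combination h5
  rcases mul_eq_zero.1 h12 with h | h
  · left; rw [show δ θ = 1 by linarith only [h], mul_one]
  · right; rw [show δ θ = -1 by linarith only [h]]; ring

/-- the invariants of an irreducible character -/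
theorem invar (hT : Tor φ) (hB : CenB φ) {e : ℕ} (he : Nat.card (NT φ) = e * (Nat.card A * Nat.card B))
    {χ : G → ℂ} (hχ : IsIrrCharacter G χ) {μ0 : B →* ℂˣ} (hμ : ∀ θ μ, μ ≠ μ0 → mul φ χ θ μ = 0)
    (ht : 4 * e ^ 2 < Nat.card A) :
    ∃ k ρ : ℤ, |ρ| ≤ e ∧ χ 1 = ((k * Nat.card A + ρ : ℤ) : ℂ) ∧
      (∀ θ θ', θ ≠ 1 → θ' ≠ 1 → θ' ∉ orb φ θ → 0 ≤ dif φ χ θ μ0 * dif φ χ θ' μ0) ∧
      (∀ θ θ', θ ≠ 1 → θ' ≠ 1 → θ' ∉ orb φ θ → dif φ χ θ μ0 ≠ dif φ χ θ' μ0 → ρ = e ∨ ρ = -e) ∧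
      (ρ ≠ e → ρ ≠ -e → ∀ θ, θ ≠ 1 → dif φ χ θ μ0 = -ρ) := by
  obtain ⟨k, hk, hdeg⟩ := delta hT he hχ hμ ht
  set δ : (A →* ℂˣ) → ℤ := fun θ => mul φ χ θ μ0 - k with hδ
  have hinv : ∀ θ, ∀ x ∈ NT φ, δ (θ ^ kap φ x) = δ θ := by
    intro θ x hx
    have h1 := hT.mul_pow (isIrr_isCharacter hχ) hx θ μ0
    rw [mu_kap hT hB hx] at h1
    show mul φ χ (θ ^ kap φ x) μ0 - k = mul φ χ θ μ0 - k
    rw [h1]
  have hk' : ∑ θ, δ θ ^ 2 ≤ e := hk
  have hdif : ∀ θ, dif φ χ θ μ0 = δ θ - δ 1 := by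
    intro θ
    show mul φ χ θ μ0 - mul φ χ 1 μ0 = (mul φ χ θ μ0 - k) - (mul φ χ 1 μ0 - k)
    ring
  have hty := fun θ hθ h0 => types hT he δ hinv hk' (θ := θ) hθ h0
  have hsymm : ∀ {θ θ' : A →* ℂˣ}, θ' ∉ orb φ θ → θ ∉ orb φ θ' := by
    intro θ θ' h h'
    exact Finset.disjoint_left.1 (orb_disjoint hT h) (self_mem_orb hT θ) h'
  refine ⟨k, ∑ θ, δ θ, (abs_sum_le δ).trans hk', hdeg, ?_, ?_, ?_⟩
  · intro θ θ' hθ hθ' h
    rw [hdif, hdif]
    by_cases h1 : δ θ = 0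
    · by_cases h2 : δ θ' = 0
      · rw [h1, h2]; linarith only [mul_self_nonneg (δ 1)]
      · have h3 := (hty θ' hθ' h2).2 1 (one_notMem_orb hT hθ')
        rw [h1, h3]; simp
    · have h3 := (hty θ hθ h1).2 1 (one_notMem_orb hT hθ)
      have h4 := (hty θ hθ h1).2 θ' h
      rw [h3, h4]; simp
  · intro θ θ' hθ hθ' h hne
    rw [hdif, hdif] at hne
    by_cases h1 : δ θ = 0
    · by_cases h2 : δ θ' = 0
      · exact absurd (by rw [h1, h2]) hne
      · exact (hty θ' hθ' h2).1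
    · exact (hty θ hθ h1).1
  · intro h1 h2 θ hθ
    have h3 : ∀ η, η ≠ 1 → δ η = 0 := by
      intro η hη
      by_contra h4
      rcases (hty η hη h4).1 with h5 | h5
      · exact h1 h5
      · exact h2 h5
    rw [hdif, h3 θ hθ, Finset.sum_eq_single 1 (fun η _ hη => h3 η hη) (fun h => absurd (Finset.mem_univ _) h)]
    ring

theorem dif_eq_zero {χ : G → ℂ} {μ0 : B →* ℂˣ} (hμ : ∀ θ μ, μ ≠ μ0 → mul φ χ θ μ = 0) {θ : A →* ℂˣ} {μ : B →* ℂˣ}
    (h : μ ≠ μ0) : dif φ χ θ μ = 0 := by rw [dif, hμ _ _ h, hμ _ _ h, sub_zero]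

/-- **First contradiction**: `|N : T| = ℓ ^ 2`. -/
theorem false_of_sq (hT : Tor φ) (hB : CenB φ) {ℓ e : ℕ} (he : Nat.card (NT φ) = e * (Nat.card A * Nat.card B))
    (hℓ : e = ℓ ^ 2) (hℓ1 : 1 < ℓ) (ht : 4 * e ^ 2 < Nat.card A) (hte : ℓ * e + e < Nat.card A)
    {b0 : B} (hb0 : b0 ≠ 1)
    (h : ∀ χ : IrrCharacter G, (∃ b, (χ : G → ℂ) (φ (1, b)) ≠ (χ : G → ℂ) 1) →
      ∃ ψ : IrrCharacter G, (∀ b, (ψ : G → ℂ) (φ (1, b)) = (ψ : G → ℂ) 1) ∧ (χ : G → ℂ) 1 = ℓ * (ψ : G → ℂ) 1) :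
    False := by
  have := Cfsg.Agent.Characters.Core.finite_irr (G := G)
  have := Fintype.ofFinite (IrrCharacter G)
  obtain ⟨θ, θ', hθ, hθ', hor⟩ := exists_two hT he (by nlinarith only [hℓ, hℓ1, hte])
  obtain ⟨ν, hν⟩ := CommGroup.exists_apply_ne_one_of_hasEnoughRootsOfUnity B ℂ hb0
  have hν1 : ν ≠ 1 := by rintro rfl; exact hν rfl
  -- a character over `ν` of the second type
  obtain ⟨χ, hχ⟩ : ∃ χ : IrrCharacter G, dif φ χ θ ν ≠ dif φ χ θ' ν := by
    by_contra hcon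
    push Not at hcon
    have h1 := col_self hT hB he hθ ν
    have h2 := col_ne hT hB he hθ hθ' hor ν
    have h3 : ∀ χ : IrrCharacter G, dif φ χ θ ν ^ 2 = dif φ χ θ ν * dif φ χ θ' ν := by
      intro χ
      rw [sq]
      nth_rewrite 2 [hcon χ]
      rfl
    rw [Finset.sum_congr rfl fun χ _ => h3 χ, h2] at h1
    linarith only [h1]
  obtain ⟨μχ, hμχ1, hμχ2⟩ := exists_cen hB χ.2
  have hμν : ν = μχ := by
    by_contra hne
    exact hχ (by rw [dif_eq_zero hμχ2 hne, dif_eq_zero hμχ2 hne])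
  subst hμν
  obtain ⟨kχ, ρχ, hρχ, hdχ, -, hχb, -⟩ := invar hT hB he χ.2 hμχ2 ht
  have hρe := hχb θ θ' hθ hθ' hor hχ
  obtain ⟨ψ, hψ1, hψ2⟩ := h χ ⟨b0, by
    rw [hμχ1]
    intro hcon
    have h3 : ((ν b0 : ℂˣ) : ℂ) = 1 := by
      have h0 := isIrr_apply_one_ne_zero χ.2
      exact mul_left_cancel₀ h0 (by rw [hcon, mul_one])
    exact hν (Units.ext h3)⟩
  obtain ⟨μψ, hμψ1, hμψ2⟩ := exists_cen hB ψ.2
  have hμψ : μψ = 1 := by
    ext b
    have h0 := isIrr_apply_one_ne_zero ψ.2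
    have h3 := hμψ1 b
    rw [hψ1 b] at h3
    exact (mul_left_cancel₀ h0 (by rw [← h3, MonoidHom.one_apply, Units.val_one, mul_one])).symm
  subst hμψ
  obtain ⟨kψ, ρψ, hρψ, hdψ, -, -, hψc⟩ := invar hT hB he ψ.2 hμψ2 ht
  -- comparison of residues
  have hcmp : kχ * Nat.card A + ρχ = ℓ * (kψ * Nat.card A + ρψ) := by
    have h3 := hψ2
    rw [hdχ, hdψ] at h3
    exact_mod_cast h3
  have hres : ρχ = ℓ * ρψ := by
    have h3 : ρχ - ℓ * ρψ = Nat.card A * (ℓ * kψ - kχ) := by linear_combination hcmp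
    have h4 : |ρχ - ℓ * ρψ| < Nat.card A := by
      have h5 : |ρχ - ℓ * ρψ| ≤ e + ℓ * e := by
        refine (abs_sub _ _).trans ?_
        rw [abs_mul, Nat.abs_cast]
        have : (ℓ : ℤ) * |ρψ| ≤ ℓ * e := mul_le_mul_of_nonneg_left hρψ (by positivity)
        linarith only [hρχ, this]
      have h6 : ((ℓ * e + e : ℕ) : ℤ) < Nat.card A := by exact_mod_cast hte
      push_cast at h6
      linarith only [hte, h5]
    have h5 : ρχ - ℓ * ρψ = 0 := Int.eq_zero_of_abs_lt_dvd ⟨_, h3⟩ h4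
    linarith only [h5]
  have hℓ0 : (ℓ : ℤ) ≠ 0 := by
    have : ℓ ≠ 0 := by omega
    exact_mod_cast this
  have heZ : (e : ℤ) = (ℓ : ℤ) ^ 2 := by exact_mod_cast hℓ
  have hρψ2 : ρψ = ℓ ∨ ρψ = -ℓ := by
    rcases hρe with h3 | h3
    · left
      refine mul_left_cancel₀ hℓ0 ?_
      rw [← hres, h3, heZ, sq]
    · right
      refine mul_left_cancel₀ hℓ0 ?_
      rw [← hres, h3, heZ, sq]; ring
  have hℓe : (ℓ : ℤ) < e := by
    have : ℓ < e := by rw [hℓ]; nlinarith only [hℓ1]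
    exact_mod_cast this
  have hℓpos : (0 : ℤ) < ℓ := by
    have : 0 < ℓ := by omega
    exact_mod_cast this
  have hψd : ∀ η, η ≠ 1 → dif φ ψ η 1 = -ρψ :=
    hψc (by rcases hρψ2 with h3 | h3 <;> rw [h3] <;> linarith only [hℓe, hℓ1]) (by rcases hρψ2 with h3 | h3 <;> rw [h3] <;> linarith only [hℓ1, hℓe])
  have hψe : dif φ ψ θ 1 * dif φ ψ θ' 1 = e := by
    rw [hψd θ hθ, hψd θ' hθ', heZ]
    rcases hρψ2 with h3 | h3 <;> rw [h3] <;> ring
  -- the column over the trivial character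
  have h1 := col_ne hT hB he hθ hθ' hor (1 : B →* ℂˣ)
  have h0 : ∀ χ' : IrrCharacter G, 0 ≤ dif φ χ' θ 1 * dif φ χ' θ' 1 := by
    intro χ'
    obtain ⟨μ', hμ'1, hμ'2⟩ := exists_cen hB χ'.2
    by_cases hμ' : (1 : B →* ℂˣ) = μ'
    · subst hμ'
      obtain ⟨_, _, -, -, h3, -, -⟩ := invar hT hB he χ'.2 hμ'2 ht
      exact h3 θ θ' hθ hθ' hor
    · rw [dif_eq_zero hμ'2 hμ', zero_mul]
  let χ1 : IrrCharacter G := ⟨1, isIrr_one⟩
  have hχ1 : dif φ χ1 θ 1 * dif φ χ1 θ' 1 = 1 := by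
    show dif φ (1 : G → ℂ) θ 1 * dif φ (1 : G → ℂ) θ' 1 = 1
    rw [dif_one_char hθ, dif_one_char hθ']; norm_num
  have hne : ψ ≠ χ1 := by
    rintro rfl
    rw [hψe] at hχ1
    have : (1 : ℤ) < ℓ := by exact_mod_cast hℓ1
    linarith only [hℓ1, hℓe, hχ1]
  have h2 : dif φ ψ θ 1 * dif φ ψ θ' 1 + dif φ χ1 θ 1 * dif φ χ1 θ' 1 ≤
      ∑ χ' : IrrCharacter G, dif φ χ' θ 1 * dif φ χ' θ' 1 := by
    rw [← Finset.sum_pair (f := fun χ' : IrrCharacter G => dif φ χ' θ 1 * dif φ χ' θ' 1) hne]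
    exact Finset.sum_le_sum_of_subset_of_nonneg (Finset.subset_univ _) fun χ' _ _ => h0 χ'
  rw [h1, hψe, hχ1] at h2
  linarith only [h2]

/-- **Second contradiction**: `ℓ = 2` and `N` is transitive. -/
theorem false_of_trans (hT : Tor φ) (hB : CenB φ) {e : ℕ} (he : Nat.card (NT φ) = e * (Nat.card A * Nat.card B))
    (hA : Nat.card A = 13) (he12 : e = 12) {b0 : B} (hb0 : b0 ≠ 1)
    (h : ∀ χ : IrrCharacter G, (∃ b, (χ : G → ℂ) (φ (1, b)) ≠ (χ : G → ℂ) 1) →
      ∃ ψ : IrrCharacter G, (∀ b, (ψ : G → ℂ) (φ (1, b)) = (ψ : G → ℂ) 1) ∧ (χ : G → ℂ) 1 = 2 * (ψ : G → ℂ) 1) :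
    False := by
  have := Cfsg.Agent.Characters.Core.finite_irr (G := G)
  have := Fintype.ofFinite (IrrCharacter G)
  have hcard : Fintype.card (A →* ℂˣ) = 13 := by
    rw [← Nat.card_eq_fintype_card, CommGroup.card_monoidHom_of_hasEnoughRootsOfUnity A ℂ, hA]
  have : Nontrivial (A →* ℂˣ) := Fintype.one_lt_card_iff_nontrivial.1 (by rw [hcard]; norm_num)
  obtain ⟨θ, hθ⟩ := exists_ne (1 : A →* ℂˣ)
  -- transitivity
  have horb : insert 1 (orb φ θ) = univ := by
    refine Finset.eq_univ_of_card _ ?_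
    rw [hcard, Finset.card_insert_of_notMem (one_notMem_orb hT hθ)]
    have h1 := le_orb_sum hT he hθ (fun _ => 1) (fun _ => by norm_num) (fun _ _ => rfl)
    rw [Finset.sum_const, mul_one, he12] at h1
    have h2 : (12 : ℤ) ≤ (orb φ θ).card := by simpa only [_root_.Nat.ofNat_le_cast, _root_.Nat.cast_ofNat, _root_.Int.nsmul_eq_mul, _root_.mul_one] using h1
    have h3 := orb_card_le hT he θ
    omega
  have key : ∀ (χ : G → ℂ) (_ : IsIrrCharacter G χ) (μ0 : B →* ℂˣ) (_ : ∀ θ μ, μ ≠ μ0 → mul φ χ θ μ = 0),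
      |dif φ χ θ μ0| ≤ 3 ∧ ∃ k : ℤ, χ 1 = ((13 * k - dif φ χ θ μ0 : ℤ) : ℂ) := by
    intro χ hχ μ0 hμ
    have := Fintype.ofFinite (B →* ℂˣ)
    have hall : ∀ η ∈ orb φ θ, mul φ χ η μ0 = mul φ χ θ μ0 := by
      intro η hη
      obtain ⟨x, hx, rfl⟩ := mem_orb.1 hη
      have h1 := hT.mul_pow (isIrr_isCharacter hχ) hx θ μ0
      rw [mu_kap hT hB hx] at h1
      exact h1
    have hoc : (orb φ θ).card = 12 := by
      have h1 := congrArg Finset.card horb
      rw [Finset.card_insert_of_notMem (one_notMem_orb hT hθ), Finset.card_univ, hcard] at h1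
      omega
    have hs : ∀ f : ℤ → ℤ, ∑ η, f (mul φ χ η μ0) = 12 * f (mul φ χ θ μ0) + f (mul φ χ 1 μ0) := by
      intro f
      rw [← horb, Finset.sum_insert (one_notMem_orb hT hθ), Finset.sum_congr rfl fun η hη => by rw [hall η hη],
        Finset.sum_const, hoc]
      simp
      ring
    have h1 := hT.row hχ he
    rw [Finset.sum_eq_single μ0 (fun μ _ h => by
        rw [Finset.sum_congr rfl fun θ _ => by rw [hμ θ μ h]]; simp) (fun h => absurd (Finset.mem_univ _) h),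
      Finset.sum_eq_single μ0 (fun μ _ h => by
        rw [Finset.sum_congr rfl fun θ _ => hμ θ μ h]; simp) (fun h => absurd (Finset.mem_univ _) h)] at h1
    have h2 := hs (fun z => z ^ 2)
    have h3 := hs (fun z => z)
    rw [h2, h3, hA, he12] at h1
    have h4 : dif φ χ θ μ0 ^ 2 ≤ 13 := by
      rw [dif]
      push_cast at h1
      linarith only [h1]
    refine ⟨?_, mul φ χ θ μ0, ?_⟩
    · rw [abs_le]; constructor <;> nlinarith only [h4]
    · rw [degree_eq (φ := φ) (isIrr_isCharacter hχ), Finset.sum_eq_single μ0 (fun μ _ h => by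
        rw [Finset.sum_congr rfl fun θ _ => hμ θ μ h]; simp) (fun h => absurd (Finset.mem_univ _) h), h3, dif]
      congr 1
      ring
  obtain ⟨ν, hν⟩ := CommGroup.exists_apply_ne_one_of_hasEnoughRootsOfUnity B ℂ hb0
  have h1 := col_self hT hB he hθ ν
  have h2 : ∀ χ : IrrCharacter G, (4 : ℤ) ∣ dif φ χ θ ν ^ 2 := by
    intro χ
    obtain ⟨μχ, hμχ1, hμχ2⟩ := exists_cen hB χ.2
    by_cases hne : ν = μχ
    swap
    · rw [dif_eq_zero hμχ2 hne]; simp
    subst hne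
    obtain ⟨ψ, hψ1, hψ2⟩ := h χ ⟨b0, by
      rw [hμχ1]
      intro hcon
      have h3 : ((ν b0 : ℂˣ) : ℂ) = 1 := by
        have h0 := isIrr_apply_one_ne_zero χ.2
        exact mul_left_cancel₀ h0 (by rw [hcon, mul_one])
      exact hν (Units.ext h3)⟩
    obtain ⟨μψ, hμψ1, hμψ2⟩ := exists_cen hB ψ.2
    obtain ⟨ha, kχ, hkχ⟩ := key χ χ.2 ν hμχ2
    obtain ⟨hb, kψ, hkψ⟩ := key ψ ψ.2 μψ hμψ2
    have hcmp : 13 * kχ - dif φ χ θ ν = 2 * (13 * kψ - dif φ ψ θ μψ) := by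
      have h3 := hψ2
      rw [hkχ, hkψ] at h3
      exact_mod_cast h3
    have ha' := abs_le.1 ha
    have hb' := abs_le.1 hb
    have h3 : dif φ χ θ ν = 2 * dif φ ψ θ μψ := by omega
    rw [h3]
    exact ⟨dif φ ψ θ μψ ^ 2, by ring⟩
  have h3 : (4 : ℤ) ∣ ∑ χ : IrrCharacter G, dif φ χ θ ν ^ 2 := Finset.dvd_sum fun χ _ => h2 χ
  rw [h1, he12] at h3
  norm_num at h3

end Cfsg.Agent.H417.TorFalse
end
end
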